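import Cfsg.Agent.MQ.L23

/-! Simple groups of order 244823040: the automizer of a Sylow 11-subgroup is not of order 2. -/

set_option autoImplicit false
set_option linter.unusedSectionVars false

namespace MQ.La
open Cfsg H8 H2 Subgroup L23

theorem chk : ∀ d ∈ dv, 22 < d → d ∣ 22256640 → (d % 11 = 1 → d + 1 ∣ 22256640 → d = 23 ∨ d = 45) ∧
    (d % 11 = 10 → 23 < d → ¬ d - 1 ∣ 22256640) := by decide +kernel

variable {G : Type*} [Group G] [Fintype G] {p q : ℕ} [hp : Fact p.Prime] [hq : Fact q.Prime]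
  {w y : G}

/-- If `q ∤ |V_p|` then the `q`-section of `w` consists of `p`-regular elements. -/
theorem reg_of_not_dvd (k : DefOne p y) (l : DefOne q w) (hpq : p ≠ q) (h : ¬ q ∣ Nat.card k.V)
    {g : G} (hg : g ∈ Cx w) : ¬ p ∣ orderOf g := fun h1 => by
  obtain ⟨z, hz⟩ := exists_prime_orderOf_dvd_card' (G := Cx w) p
    (h1.trans (orderOf_dvd_natCard _ hg))
  rw [← orderOf_coe] at hz
  obtain ⟨m, hm, hm'⟩ := exists_card_eq k
  have h2 := H9.card_Cen_eq_of_orderOf hm hm' k.ord hz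
  have h3 : q ∣ Nat.card (H9.Cen (z : G)) :=
    l.ord ▸ orderOf_dvd_natCard _ (H9.mem_Cen.2 (mem_Cx.1 z.2))
  rw [h2, show H9.Cen y = Cx y from rfl, k.card_Cx] at h3
  exact h (((Nat.coprime_primes hq.out hp.out).2 hpq.symm).dvd_of_dvd_mul_left h3)

instance fact7 : Fact (Nat.Prime 7) := ⟨by norm_num⟩

variable [IsSimpleGroup G] (hN : Nat.card G = 244823040)
include hN

theorem blk2 (k : DefOne 11 y) (b : k.Block) (he : Nat.card k.H = 2) :
    ∃ c : IrrCharacter G, (deg c = 23 ∨ deg c = 45) ∧ deg (b.ex 1) = deg c + 1 ∧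
      ∀ l g, ¬ 11 ∣ orderOf g → (b.ex l).1 g = 1 + c.1 g := by
  classical
  obtain ⟨h1, h2, -, -, -⟩ := loc_num (nc hN) k (m := 22256640) hN
  have hV : k.V ≠ ⊥ := fun e => by
    rw [he, card_eq_one.2 e] at h1
    omega
  have hm : (Cx y).index ∣ 22256640 := by rw [k.index_Cx, ← h1]; exact dvd_mul_right _ _
  obtain ⟨c, c1, c3, c2⟩ := blk_enum b (n := 1) he
  obtain ⟨l1, l2⟩ := blk_large (nc hN) b hV
  rw [Fin.sum_univ_one] at c2
  have k1 := (b.deg_dvd (c1 0).2).trans hm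
  have k2 := chk _ (mem_dv (k1.trans (by norm_num))) (l1 _ (c1 0).2 (c1 0).1) k1
  have k3 := (b.deg_ex_dvd 1).trans hm
  have k4 := blk_one b (c1 0).2
  have hB : b.B = {one1 G, c 0} := by
    ext χ
    simp only [Finset.mem_insert, Finset.mem_singleton]
    refine ⟨fun h => or_iff_not_imp_left.2 fun h' => ?_, ?_⟩
    · obtain ⟨j, hj⟩ := c3 χ h h'
      rw [← hj, Subsingleton.elim j 0]
    · rintro (rfl | rfl)
      exacts [b.one_mem, (c1 0).2]
  have k7 : ∀ l g, ¬ 11 ∣ orderOf g →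
      1 + b.sgn (c 0) * (c 0).1 g + b.sgn0 * (b.ex l).1 g = 0 := fun l g hg => by
    have := b.sum_reg l hg
    rwa [hB, Finset.sum_pair (c1 0).1.symm, b.sgn_one, one1_apply, Int.cast_one, one_mul] at this
  have k5 := b.sgn_eq _ (c1 0).2
  have k6 := b.sgn0_eq
  refine ⟨c 0, ?_⟩
  generalize deg (c 0) = d at *
  generalize deg (b.ex 1) = d' at *
  generalize b.sgn (c 0) = s at *
  generalize b.sgn0 = s' at *
  push_cast at k4
  rcases k5 with rfl | rfl <;> rcases k6 with rfl | rfl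
  · omega
  · refine ⟨k2.1 (by omega) (by rwa [show d + 1 = d' by omega]), by omega, fun l g hg => ?_⟩
    have := k7 l g hg
    push_cast at this
    linear_combination -this
  · exact (k2.2 (by omega) (by omega) (by rwa [show d - 1 = d' by omega])).elim
  · omega

theorem not_two (k : DefOne 11 y) (h7 : ¬ 7 ∣ Nat.card k.V) : Nat.card k.H ≠ 2 := fun he => by
  classical
  obtain ⟨b⟩ := k.nonempty_block
  obtain ⟨c, c1, c2, c3⟩ := blk2 hN k b he
  obtain ⟨w, l⟩ := exists_defOne (G := G) (p := 7) (m := 34974720) hN (by norm_num)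
  obtain ⟨b'⟩ := l.nonempty_block
  have h1 : ∀ v : l.V, ¬ 11 ∣ orderOf (xp w (1 : ZMod 7) * v) := fun v =>
    reg_of_not_dvd k l (by norm_num) h7 (mul_mem (xp_mem_Cx _) (l.V_le v.2))
  have h2 : ∀ χ ∈ b'.B, deg χ % 7 = 1 ∨ deg χ % 7 = 6 := fun χ hχ => by
    have k1 := blk_one b' hχ
    have k2 := b'.sgn_eq _ hχ
    generalize deg χ = d at *
    generalize b'.sgn χ = s at *
    push_cast at k1
    rcases k2 with rfl | rfl <;> omega
  obtain ⟨θ, hθ, hθ'⟩ : ∃ θ ∈ b.E, θ ∉ b'.E := by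
    by_contra h3
    have h4 := Finset.card_le_card (s := b.E) (t := b'.E) fun θ hθ => by
      by_contra h5; exact h3 ⟨θ, hθ, h5⟩
    have h5 := b'.card_E_mul
    have h6 := l.one_lt_card_H (perf hN)
    rw [b.card_E, he] at h4
    nlinarith
  obtain ⟨j, rfl⟩ := b.mem_E.1 hθ
  have h3 := b'.sum_other (χ := b.ex j) (fun h => by
    have := h2 _ h
    rw [b.deg_ex j 1] at this
    omega) (fun i e => hθ' (b'.mem_E.2 ⟨i, e.symm⟩)) (one_ne_zero (α := ZMod 7))
  simp only [c3 j _ (h1 _), Finset.sum_add_distrib, Finset.sum_const, Finset.card_univ,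
    nsmul_eq_mul, mul_one] at h3
  have h4 : (Fintype.card l.V : ℂ) ≠ 0 := by exact_mod_cast Fintype.card_ne_zero
  obtain ⟨i, rfl⟩ : ∃ i, c = b'.ex i := by
    by_contra h5
    rw [b'.sum_other (fun h => by have := h2 _ h; omega) (not_exists.1 h5) one_ne_zero,
      add_zero] at h3
    exact h4 h3
  simp only [b'.apply_ex i one_ne_zero (Subtype.prop _), Finset.sum_const, Finset.card_univ,
    nsmul_eq_mul] at h3
  have h5 : (b'.ex i).1 (xp w (1 : ZMod 7)) = (-1 : ℤ) := by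
    rw [b'.apply_ex' i one_ne_zero]
    push_cast
    exact mul_left_cancel₀ h4 (by linear_combination h3)
  rw [xp_one] at h5
  have h6 := dvd_val_sub_deg 7 _ (k := 1) (by rw [pow_one, l.pow_p]) h5
  push_cast at h6
  omega

end MQ.La

namespace MQ
open Cfsg H8

theorem not_e2 {G : Type*} [Group G] [Fintype G] [IsSimpleGroup G] {y : G}
    (hN : Nat.card G = 244823040) (k : DefOne 11 y) (h7 : ¬ 7 ∣ Nat.card k.V) :
    Nat.card k.H ≠ 2 := La.not_two hN k h7

end MQ
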