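import Cfsg.Agent.MQ.NA

/-! The degrees 540 and 1540. -/

set_option autoImplicit false
set_option linter.unusedSectionVars false

namespace MQ
open Cfsg H8 H2 Subgroup D3
open scoped ComplexConjugate

variable {G : Type*} [Group G] [Fintype G] [IsSimpleGroup G] {x y : G}

theorem Loc.not_b2 (L : Loc x y) {θ η : IrrCharacter G} (dθ : deg θ = 540) (dη : deg η = 1540) :
    ¬ _root_.L.UU 2 (ww 2 θ η) := by
  classical
  intro u
  obtain ⟨n, hn⟩ := coef (p := 23) (b := 0) (c := 1) (m := 10644480) (χ := η) L.hN (by norm_num)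
    (by simp) θ
  have e : ∀ g, cf 2 η.1 g * conj (θ.1 g) = (if g = 1 then 1540 * 540 else 0) +
      (η.1 g * conj (θ.1 g) - cf 23 η.1 g * conj (θ.1 g)) := fun g => by
    by_cases h1 : g = 1
    · simp [h1, cf_one, deg_eq, dθ, dη, map_ofNat]
    rw [if_neg h1, zero_add]
    by_cases h2 : 23 ∣ orderOf g
    · have h3 : ¬ 2 ∣ orderOf g := fun h3 => by
        have o := orderOf_pow_orderOf_div (orderOf_pos g).ne' h3
        refine L.hx.not_dvd_card_Cx L.vx (z := g ^ (orderOf g / 2)) (fun e => by simp [e] at o)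
          (by rw [o]; decide) (h2.trans (orderOf_dvd_natCard _ (mem_Cx.2 ?_)))
        exact (Commute.self_pow g _).eq
      rw [cf_reg _ h3, cf_sing _ h2, zero_mul, sub_zero]
    rw [cf_reg _ h2, sub_self]
    by_cases h3 : 2 ∣ orderOf g
    · rw [cf_sing _ h3, zero_mul]
    rw [cf_reg _ h3]
    obtain ⟨q, hq, h4⟩ := Nat.exists_prime_and_dvd (mt orderOf_eq_one_iff.1 h1)
    have h5 := h4.trans (_root_.orderOf_dvd_natCard g)
    rw [L.hN, show 244823040 = 2 ^ 10 * 3 ^ 3 * 5 * 7 * 11 * 23 from rfl] at h5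
    simp only [hq.dvd_mul, hq.prime.dvd_pow_iff_dvd (n := 10) (by decide),
      hq.prime.dvd_pow_iff_dvd (n := 3) (by decide)] at h5
    have z := fun (p : ℕ) [Fact p.Prime] (χ : IrrCharacter G) m a b (c : q ∣ p) =>
      irr_eq_zero_of_defect_zero (p := p) χ (m := m) a b (g := g)
        ((Nat.prime_dvd_prime_iff_eq hq Fact.out).1 c ▸ h4)
    rcases h5 with ((((c | c) | c) | c) | c) | c
    · exact absurd ((Nat.prime_dvd_prime_iff_eq hq Nat.prime_two).1 c ▸ h4) h3
    · rw [z 3 θ 453376 (by rw [L.hN, dθ]) (by decide) c, map_zero, mul_zero]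
    · rw [z 5 θ 453376 (by rw [L.hN, dθ]) (by decide) c, map_zero, mul_zero]
    · rw [z 7 η 158976 (by rw [L.hN, dη]) (by decide) c, zero_mul]
    · rw [z 11 η 158976 (by rw [L.hN, dη]) (by decide) c, zero_mul]
    · exact absurd ((Nat.prime_dvd_prime_iff_eq hq (by norm_num)).1 c ▸ h4) h2
  have h := ww_eq (p := 2) θ η
  have o := irr_classInner_of_ne η.2 θ.2 fun e => by
    have := ne_of_deg (χ := η) (ψ := θ) (by omega); exact this (Subtype.ext e)
  simp only [classInner, e, Finset.sum_add_distrib, Finset.sum_sub_distrib, Finset.sum_ite_eq',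
    Finset.mem_univ, if_true, L.hN, dη] at h hn o
  refine u.not_MM ?_
  rw [show ww 2 θ η = ((540 - 6912 * n : ℤ) : ℂ) by
    push_cast at h hn o ⊢
    linear_combination h / 1540 - 6912 * hn + 158976 * o]
  exact _root_.L.MM_intCast_iff.2 (by omega)

end MQ
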