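import Cfsg.Agent.H2.Loc
import Cfsg.Agent.H5.InvSylow
import Cfsg.Agent.H9.Tools2

/-! Simple groups of order 244823040: the Sylow 23-normalizer has order `23 * 11`. -/

set_option autoImplicit false
set_option linter.unusedSectionVars false

namespace MQ.L23
open Cfsg H8 H2 Subgroup

/-- The divisors of `244823040`. -/
def dv : List ℕ := (dvs 1024).flatMap fun a => (dvs 27).flatMap fun b => (dvs 35).flatMap fun c =>
  (dvs 253).map fun d => a * (b * (c * d))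

theorem mem_dv {n : ℕ} (h : n ∣ 244823040) : n ∈ dv := by
  rw [show 244823040 = 1024 * (27 * (35 * 253)) from rfl] at h
  obtain ⟨a, r, ha, hr, rfl⟩ := (Nat.dvd_mul).1 h
  obtain ⟨b, r', hb, hr', rfl⟩ := (Nat.dvd_mul).1 hr
  obtain ⟨c, d, hc, hd, rfl⟩ := (Nat.dvd_mul).1 hr'
  simp only [dv, List.mem_flatMap, List.mem_map]
  exact ⟨a, mem_dvs (by norm_num) ha, b, mem_dvs (by norm_num) hb, c, mem_dvs (by norm_num) hc,
    d, mem_dvs (by norm_num) hd, rfl⟩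

theorem chk1 : ∀ d ∈ dv, 46 < d → (d % 23 = 1 → ¬ d + 1 ∣ 10644480) ∧
    (d % 23 = 22 → ¬ d - 1 ∣ 10644480) := by decide +kernel

theorem chk2 : ∀ d ∈ dv, d ∣ 10644480 → 46 < d → d % 2 = 1 → d * d ≤ 244823040 →
    (d % 23 = 1 ∨ d % 23 = 22 ∨ d % 23 = 11 ∨ d % 23 = 12) → d ∈ [231, 495, 10395] := by
  decide +kernel

theorem chk3 : ∀ v ∈ dv, v ≠ 1 → ∀ e ∈ [11, 22], e * v % 23 = 11 → e * v ∣ 10644480 →
    ∀ d ∈ [231, 495, 10395], d * v ∣ 10644480 → d ≠ 10395 ∧ 2 ∣ v ∧ ¬ 1024 ∣ v ∧ ¬ 11 ∣ v := by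
  decide +kernel

variable {G : Type*} [Group G] [Fintype G] {p : ℕ} [hp : Fact p.Prime] {x y : G}

theorem mod_of_restrict {V : Subgroup G} (χ : IrrCharacter G) {β : V → ℂ} (hβ : IsCharacter V β)
    {r : ℕ} (hr : ∀ v : V, χ.1 v = p * β v + r) {v : G} (hv : v ∈ V) {a : ℤ} (ha : χ.1 v = a) :
    (p : ℤ) ∣ a - deg χ := by
  have h1 := hr ⟨v, hv⟩
  have h2 := hr 1
  rw [OneMemClass.coe_one, deg_eq] at h2
  obtain ⟨b, hb⟩ := exists_int_of_mul ((char_isIntegral hβ ⟨v, hv⟩).sub (char_isIntegral hβ 1))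
    (m := p) (a := a - deg χ) (by exact_mod_cast hp.out.ne_zero) (by
      push_cast; rw [← ha, h1, h2]; ring)
  refine ⟨b, ?_⟩
  have : ((a - deg χ : ℤ) : ℂ) = (p * b : ℤ) := by
    push_cast; rw [← hb, ← ha, h1, h2]; ring
  exact_mod_cast this

/-- Values on `V` of the characters in the principal block are congruent to the degree. -/
theorem blk_mod {h : DefOne p x} (b : h.Block) {χ : IrrCharacter G}
    (hχ : χ ∈ b.B ∨ χ = b.ex 1) {v : G} (hv : v ∈ h.V) {a : ℤ} (ha : χ.1 v = a) :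
    (p : ℤ) ∣ a - deg χ := by
  rcases hχ with h1 | rfl
  · obtain ⟨β, h2, h3⟩ := b.exists_restrict_B h1
    exact mod_of_restrict χ h2 h3 hv ha
  · obtain ⟨β, h2, h3⟩ := b.exists_restrict_ex 1
    exact mod_of_restrict _ h2 h3 hv ha

/-- An element of prime order `r` normalizing `V` centralizes an element of order `q` of `V` when
the `q`-part of `|V|` is not `1` modulo `r`. -/
theorem exists_fixed {V : Subgroup G} {q : ℕ} [hq : Fact q.Prime] (hy : orderOf y = p)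
    (hn : ∀ v ∈ V, y * v * y⁻¹ ∈ V) (hc : ¬ p ∣ Nat.card V)
    (hk : ∀ k m, Nat.card V = q ^ k * m → ¬ q ∣ m → q ^ k % p ≠ 1) :
    ∃ u ∈ V, orderOf u = q ∧ u ∈ Cx y := by
  obtain ⟨P, hP, hyP⟩ := H5.exists_invariant_isSylowOf q (A := zpowers y) (K := V)
    (zpowers_le.2 (H9.mem_normalizer_of_conj_mem hn))
    (by rw [Nat.card_zpowers, hy]; exact (Nat.Prime.coprime_iff_not_dvd hp.out).2 hc)
    (Or.inl inferInstance)
  obtain ⟨k, hk1⟩ := hP.isPGroup.exists_card_eq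
  have h1 : Nat.card V = q ^ k * P.relIndex V := by
    rw [← hk1, ← card_mul_index (P.subgroupOf V), Nat.card_congr (subgroupOfEquivOfLe hP.le).toEquiv]
    rfl
  have h2 := H9.card_modEq_card_inter_Cen (p := p) (· ∈ P) y (k := 1)
    (by rw [pow_one, ← hy, pow_orderOf_eq_one])
    fun g hg => (mem_normalizer_iff.1 (hyP (mem_zpowers y)) g).1 hg
  have h3 : Nat.card {g // g ∈ P ∧ g ∈ H9.Cen y} = Nat.card ↥(P ⊓ H9.Cen y) := rfl
  obtain ⟨j, hj⟩ := (hP.isPGroup.to_le (inf_le_left : P ⊓ H9.Cen y ≤ P)).exists_card_eq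
  have h4 : j ≠ 0 := by
    rintro rfl
    refine hk k _ h1 hP.not_dvd ?_
    rw [h3, hj, pow_zero] at h2
    rw [← hk1, ← Nat.mod_eq_of_lt hp.out.one_lt]
    exact h2
  obtain ⟨u, hu⟩ := exists_prime_orderOf_dvd_card' (G := ↥(P ⊓ H9.Cen y)) q
    (by rw [hj]; exact dvd_pow_self _ h4)
  exact ⟨u, hP.le u.2.1, by rwa [orderOf_coe], mem_Cx.2 (H9.mem_Cen.1 u.2.2).symm⟩

instance fact23 : Fact (Nat.Prime 23) := ⟨by norm_num⟩

variable [IsSimpleGroup G] (hN : Nat.card G = 244823040)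
include hN

theorem nc : ¬ IsMulCommutative G := not_comm_of_card_not_prime (by rw [hN]; norm_num)

theorem perf : _root_.commutator G = ⊤ := commutator_eq_top_of_simple (nc hN)

theorem num (h : DefOne 23 x) : (Nat.card h.H = 2 ∨ Nat.card h.H = 11 ∨ Nat.card h.H = 22) ∧
    Nat.card h.H * Nat.card h.V % 23 = 11 ∧ (Cx x).index * Nat.card h.V = 10644480 ∧
    Nat.card h.H * Nat.card h.V ∣ 10644480 := by
  obtain ⟨h1, h2, h3, h4, h5⟩ := loc_num (nc hN) h (m := 10644480) hN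
  have he : ∀ e ∈ dvs 22, 1 < e → e = 2 ∨ e = 11 ∨ e = 22 := by decide
  refine ⟨he _ (mem_dvs (by norm_num) h4) h5, ?_, by rw [h.index_Cx, h1], ?_⟩
  · have := congrArg (· % 23) h1
    simp only [mul_assoc] at this
    rwa [Nat.mul_mod, h2, one_mul, Nat.mod_mod] at this
  · rw [← h1, mul_assoc]; exact dvd_mul_left _ _

theorem idx_dvd (h : DefOne 23 x) : (Cx x).index ∣ 10644480 :=
  (num hN h).2.2.1 ▸ dvd_mul_right _ _

theorem mem_dv' (h : DefOne 23 x) {d : ℕ} (hd : d ∣ (Cx x).index) : d ∈ dv :=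
  mem_dv ((hd.trans (idx_dvd hN h)).trans (by norm_num))

omit hN in
theorem blk_one {h : DefOne p x} (b : h.Block) {χ : IrrCharacter G} (hχ : χ ∈ b.B) :
    (p : ℤ) ∣ b.sgn χ * deg χ - 1 := by
  obtain ⟨m, hm⟩ := b.deg_modEq hχ
  exact sgn_mod (b.sgn_eq _ hχ) hm

theorem not_two (h : DefOne 23 x) (h9 : h.V ≠ ⊥) : Nat.card h.H ≠ 2 := fun hn => by
  obtain ⟨b⟩ := h.nonempty_block
  obtain ⟨c, c1, -, c2⟩ := blk_enum b (n := 1) hn
  obtain ⟨l1, l2⟩ := blk_large (nc hN) b h9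
  rw [Fin.sum_univ_one] at c2
  have k2 := chk1 _ (mem_dv' hN h (b.deg_dvd (c1 0).2)) (l1 _ (c1 0).2 (c1 0).1)
  have k3 := (b.deg_ex_dvd 1).trans (idx_dvd hN h)
  have k4 := blk_one b (c1 0).2
  have k5 := b.sgn_eq _ (c1 0).2
  have k6 := b.sgn0_eq
  generalize deg (c 0) = d at *
  generalize deg (b.ex 1) = d' at *
  generalize b.sgn (c 0) = s at *
  generalize b.sgn0 = s' at *
  push_cast at k4
  rcases k5 with rfl | rfl <;> rcases k6 with rfl | rfl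
  · omega
  · exact k2.1 (by omega) (by rwa [show d + 1 = d' by omega])
  · exact k2.2 (by omega) (by rwa [show d - 1 = d' by omega])
  · omega

theorem exists_odd (h : DefOne 23 x) (b : h.Block) (h9 : h.V ≠ ⊥)
    (h7 : Nat.card h.H = 11 ∨ Nat.card h.H = 22) : ∃ χ : IrrCharacter G, χ ≠ one1 G ∧
      (χ ∈ b.B ∨ χ = b.ex 1) ∧ deg χ ∣ (Cx x).index ∧ 46 < deg χ ∧ deg χ % 2 = 1 ∧
      (deg χ % 23 = 1 ∨ deg χ % 23 = 22 ∨ deg χ % 23 = 11 ∨ deg χ % 23 = 12) := by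
  obtain ⟨n, hn⟩ : ∃ n, Nat.card h.H = n + 1 := ⟨_, (Nat.succ_pred_eq_of_pos (by omega)).symm⟩
  obtain ⟨c, c1, -, c2⟩ := blk_enum b hn
  obtain ⟨l1, l2⟩ := blk_large (nc hN) b h9
  obtain ⟨m0, hm0⟩ := b.deg_ex_modEq 1
  have k6 := b.sgn0_eq
  by_cases f0 : deg (b.ex 1) % 2 = 1
  · refine ⟨_, b.ex_ne_one 1, Or.inr rfl, b.deg_ex_dvd 1, l2, f0, ?_⟩
    generalize deg (b.ex 1) = d' at *
    generalize b.sgn0 = s' at *
    push_cast at hm0
    rcases k6 with rfl | rfl <;> omega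
  by_contra f1
  have f2 : (2 : ℤ) ∣ ∑ j, b.sgn (c j) * deg (c j) := Finset.dvd_sum fun j _ => by
    refine Dvd.dvd.mul_left ?_ _
    by_contra f3
    refine f1 ⟨c j, (c1 j).1, Or.inl (c1 j).2, b.deg_dvd (c1 j).2, l1 _ (c1 j).2 (c1 j).1,
      by omega, ?_⟩
    have k1 := blk_one b (c1 j).2
    have k2 := b.sgn_eq _ (c1 j).2
    generalize deg (c j) = d at *
    generalize b.sgn (c j) = s at *
    push_cast at k1
    rcases k2 with rfl | rfl <;> omega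
  generalize ∑ j, b.sgn (c j) * deg (c j) = S at *
  generalize deg (b.ex 1) = d' at *
  generalize b.sgn0 = s' at *
  rcases k6 with rfl | rfl <;> omega

theorem exists_inv (h : DefOne 23 x) (h7 : 11 ∣ Nat.card h.H) (g3 : 2 ∣ Nat.card h.V)
    (g4 : ¬ 1024 ∣ Nat.card h.V) (g5 : ¬ 11 ∣ Nat.card h.V) :
    ∃ (y : G) (h11 : DefOne 11 y), ∃ u ∈ h.V, orderOf u = 2 ∧ u ∈ h11.V := by
  obtain ⟨y, hy⟩ := exists_prime_orderOf_dvd_card' (G := Nx x) 11 (by
    rw [h.card_Nx]; exact h7.mul_left _)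
  rw [← orderOf_coe] at hy
  have h11 : DefOne 11 (y : G) := ⟨hy, by rw [hN]; norm_num⟩
  obtain ⟨u, hu, hu2, huy⟩ := exists_fixed (V := h.V) (q := 2) hy
    (fun v hv => h.conj_mem_V y.2 hv) g5 fun k m e1 e2 e3 => by
      have e4 : k < 10 := by
        by_contra e4
        exact g4 (e1 ▸ ((pow_dvd_pow 2 (by omega : 10 ≤ k)).mul_right m))
      have e5 : k ≠ 0 := by
        rintro rfl
        exact e2 (by rwa [e1, pow_zero, one_mul] at g3)
      interval_cases k <;> simp at e3 e5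
  exact ⟨y, h11, u, hu, hu2, h11.mem_V'.2 ⟨huy, by rw [hu2]; decide⟩⟩

theorem loc (h : DefOne 23 x) : h.V = ⊥ ∧ Nat.card h.H = 11 := by
  obtain ⟨h7, h8, hL, h6⟩ := num hN h
  have hV : Nat.card h.V = 1 ↔ h.V = ⊥ := card_eq_one
  by_cases h9 : h.V = ⊥
  · rw [hV.2 h9] at h8
    exact ⟨h9, by omega⟩
  exfalso
  obtain ⟨b⟩ := h.nonempty_block
  replace h7 := h7.resolve_left (not_two hN h h9)
  obtain ⟨χ, f1, f2, f3, f4, f5, f6⟩ := exists_odd hN h b h9 h7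
  have g1 := chk2 _ (mem_dv' hN h f3) (f3.trans (idx_dvd hN h)) f4 f5 (hN ▸ deg_sq_le χ) f6
  have g0 : Nat.card h.V ∣ 10644480 := hL ▸ dvd_mul_left _ _
  obtain ⟨g2, g3, g4, g5⟩ := chk3 _ (mem_dv (g0.trans (by norm_num))) (mt hV.1 h9) _
    (by simpa using h7) h8 h6 _ g1 (hL ▸ mul_dvd_mul_right f3 _)
  obtain ⟨y, h11, u, hu, hu2, huy⟩ := exists_inv hN h (by omega) g3 g4 g5
  obtain ⟨a, a1, a2⟩ := inv_val (perf hN) χ (z := u) (hu2 ▸ pow_orderOf_eq_one u)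
  have a3 := blk_mod b f2 hu a1
  have a4 := irr_int_abs_lt (nc hN) f1 (z := u) (by rintro rfl; simp at hu2) a1
  simp only [List.mem_cons, List.not_mem_nil, or_false] at g1
  have a5 := dvd_val_of_defect h11 χ (by omega) huy a1
  rw [abs_lt] at a4
  push_cast at a3 a5
  clear h8 hL h6 g0 g3 g4 g5 h7 f6
  omega

end MQ.L23

namespace MQ
open Cfsg H8

theorem loc23 {G : Type*} [Group G] [Fintype G] [IsSimpleGroup G] {x : G}
    (hN : Nat.card G = 244823040) [Fact (Nat.Prime 23)] (h : DefOne 23 x) :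
    h.V = ⊥ ∧ Nat.card h.H = 11 := L23.loc hN h

end MQ
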