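import Cfsg.Agent.MQ.Ty
import Cfsg.Agent.MQ.L23
import Cfsg.Agent.H8.Blk

/-! The principal 5-block. -/

set_option autoImplicit false
set_option linter.unusedSectionVars false

namespace MQ
open Cfsg H8 H2 Subgroup
open scoped ComplexConjugate

variable {G : Type*} [Group G] [Fintype G] [IsSimpleGroup G] {x y r w : G}

/-- decomposition of a character -/
theorem dec {ψ : G → ℂ} (hψ : IsCharacter G ψ) : ∃ n : IrrCharacter G → ℕ,
    (∀ g, ψ g = ∑ χ, n χ * χ.1 g) ∧ ∀ χ, classInner ψ χ.1 = n χ := by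
  choose n hn using fun χ : IrrCharacter G => char_classInner_nat hψ (irr_isCharacter χ.2)
  exact ⟨n, fun g => by simp only [← hn]; exact classFun_apply_eq_sum (char_isClassFunction hψ) g,
    hn⟩

/-- decomposition of `χ * conj χ` -/
theorem dec_sq (χ : IrrCharacter G) : ∃ n : IrrCharacter G → ℕ,
    (∀ g, χ.1 g * conj (χ.1 g) = ∑ ψ, n ψ * ψ.1 g) ∧ n (one1 G) = 1 ∧
    ∑ ψ, n ψ * deg ψ = deg χ * deg χ := by
  obtain ⟨n, h1, h2⟩ := dec (char_mul (irr_isCharacter χ.2) (irr_isCharacter (cc χ).2))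
  refine ⟨n, h1, ?_, ?_⟩
  · have := h2 (one1 G)
    have e := irr_classInner_self χ.2
    simp only [classInner, Pi.one_apply, map_one, mul_one] at this e
    exact_mod_cast this.symm.trans e
  · have := h1 1
    simp only [Pi.mul_apply, deg_eq, deg_cc] at this
    exact_mod_cast this.symm

/-- the signed types -/
def STY : List (ℤ × ℤ × ℤ) := (TY.filter fun a => a.1 != 11).flatMap fun a =>
  [((a.1 : ℤ), a.2.1, a.2.2), (-(a.1 : ℤ), -a.2.1, -a.2.2)]

/-- the signed types with given residue -/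
def SR (p e : ℤ) : List (ℤ × ℤ × ℤ) := STY.filter fun a => (a.1 - e) % p == 0

theorem chk52 : ∀ a ∈ SR 5 1, ∀ b ∈ STY, 1 + a.1 + b.1 = 0 → 2 + a.2.1 + b.2.1 = 0 →
    1 + a.2.2 + b.2.2 ≠ 0 := by decide +kernel

set_option synthInstance.maxSize 2000 in
theorem chk54 : ∀ a ∈ SR 5 1, ∀ b ∈ SR 5 1, a.1 ≤ b.1 → ∀ c ∈ SR 5 1, b.1 ≤ c.1 → ∀ d ∈ SR 5 1,
    1 + (a.1 + b.1 + c.1 + d.1) = 0 → c.1 ≤ d.1 → 2 + (a.2.1 + b.2.1 + c.2.1 + d.2.1) = 0 →
    1 + (a.2.2 + b.2.2 + c.2.2 + d.2.2) = 0 →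
    (∀ u ∈ [a, b, c, d], u.2.1 % 2 = 1 → ∀ v ∈ [a, b, c, d], v.2.1 % 2 = 1 →
      u.1.natAbs = v.1.natAbs) →
    (a.1, b.1, c.1, d.1) ∈ [(-7084, -5544, 5796, 6831), (-5544, -2024, 736, 6831),
      (-5544, -2024, 1771, 5796), (-5544, -759, 506, 5796), (-5544, 736, 1771, 3036),
      (-1024, -1024, 276, 1771)] := by decide +kernel

set_option synthInstance.maxSize 2000 in
theorem chkv5 : ∀ v ∈ L23.dv, 48964608 % (4 * v) = 0 → 48964608 / (4 * v) % 5 = 1 →
    ∀ t ∈ [((-7084 : ℤ), (-5544 : ℤ), (5796 : ℤ), (6831 : ℤ)), (-5544, -2024, 736, 6831),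
      (-5544, -2024, 1771, 5796), (-5544, -759, 506, 5796), (-5544, 736, 1771, 3036),
      (-1024, -1024, 276, 1771)], t.1 ∣ (48964608 / v : ℕ) → t.2.1 ∣ (48964608 / v : ℕ) →
      t.2.2.1 ∣ (48964608 / v : ℕ) → t.2.2.2 ∣ (48964608 / v : ℕ) →
      (v ∈ [2, 12, 32, 192] ∧ (t.2.2.2 = 6831 → v ∈ [2, 32])) ∧
      t ∈ [((-7084 : ℤ), (-5544 : ℤ), (5796 : ℤ), (6831 : ℤ)), (-5544, -2024, 736, 6831),
      (-5544, -2024, 1771, 5796), (-5544, -759, 506, 5796), (-5544, 736, 1771, 3036)] := by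
  decide +kernel

theorem chkv7 : ∀ v ∈ L23.dv, ∀ e ∈ [3, 6], 34974720 % (e * v) = 0 → 34974720 / (e * v) % 7 = 1 →
    v % 5 ≠ 0 → v % 11 ≠ 0 → v % 23 ≠ 0 →
    (e, v) ∈ [(3, 6), (3, 48), (3, 384), (3, 3072), (6, 3), (6, 24), (6, 192), (6, 1536)] := by
  decide +kernel

namespace Loc
variable (L : Loc x y)
include L

theorem nc : ¬ IsMulCommutative G := not_comm_of_card_not_prime (by rw [L.hN]; norm_num)
theorem perf : _root_.commutator G = ⊤ := commutator_eq_top_of_simple L.nc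

theorem odd_X {T : Gen L.hx 10} {χ : IrrCharacter G} (h : tr x χ % 2 = 1) : χ ∈ T.X := by
  by_cases h1 : χ = one1 G
  · have := tr_eq' (x := x) (χ := χ) (a := 1) (by simp [h1])
    omega
  have k : ∀ a ∈ TY, a.2.1 % 2 = 1 → a.2.1 = 1 ∨ a.2.1 = -1 := by decide +kernel
  exact L.mem_X (k _ (L.ty h1) h)

theorem odd_deg {χ ψ : IrrCharacter G} (h : tr x χ % 2 = 1) (k : tr x ψ % 2 = 1) :
    deg χ = deg ψ := by
  obtain ⟨T, -⟩ := L.gen
  rw [T.deg_X (L.odd_X h), T.deg_X (L.odd_X k)]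

theorem normSq_X {χ : IrrCharacter G} (h : tr x χ % 2 = 1) : χ.1 x * conj (χ.1 x) = 6 := by
  classical
  obtain ⟨T, t⟩ := L.gen
  have h1 := column_orthogonality_self x
  have XE : T.X = {T.E, cc T.E} := by ext θ; simp [t.X_eq]
  have ne' : T.E ≠ cc T.E := fun c => t.ne (by rw [← cc_apply, ← c])
  have h2 : ∀ j, (T.s j : ℂ) * T.s j = 1 := fun j => by exact_mod_cast sgn_sq (T.s_eq j)
  rw [T.sum_irr _ fun χ a b c => by rw [L.x_other a b c]; simp, L.cx, XE, Finset.sum_pair ne'] at h1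
  simp only [T.val_x, map_intCast, h2, Pi.one_apply, map_one, cc, Complex.conj_conj,
    Finset.sum_const, Finset.card_univ, Fintype.card_fin] at h1
  norm_num at h1
  rcases (t.X_eq χ).1 (L.odd_X h) with rfl | rfl
  · linear_combination h1 / 2
  · simp only [cc, Complex.conj_conj]
    linear_combination h1 / 2

theorem no11 (χ : IrrCharacter G) : deg χ ≠ 11 := fun e => by
  have h1 : χ ≠ one1 G := ne_of_deg (by rw [deg_one1]; omega)
  have k0 : ∀ a ∈ TY, a.1 = 11 → a.2.1 % 2 = 1 := by decide +kernel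
  have k : ∀ a ∈ TY, a.1 ≤ 121 → (a.2.1 % 2 = 1 → a.1 = 11) → a.2.1 ≤ 0 := by decide +kernel
  have o := k0 _ (L.ty h1) e
  obtain ⟨n, h2, h3, h4⟩ := dec_sq χ
  have a := h2 x
  have b := h2 x⁻¹
  rw [← char_conj_eq (irr_isCharacter χ.2), Complex.conj_conj, mul_comm] at b
  rw [L.normSq_X o] at a b
  have c : (12 : ℂ) = ∑ ψ, n ψ * (tr x ψ : ℂ) := by
    simp only [← L.tr_x, mul_add, Finset.sum_add_distrib]
    linear_combination a + b
  have c' : (12 : ℤ) = ∑ ψ, n ψ * tr x ψ := by exact_mod_cast c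
  classical
  rw [← Finset.add_sum_erase _ _ (Finset.mem_univ (one1 G)), h3,
    tr_eq' (χ := one1 G) (a := 1) (by simp)] at c'
  have : ∑ ψ ∈ Finset.univ.erase (one1 G), n ψ * tr x ψ ≤ 0 := Finset.sum_nonpos fun ψ hψ => by
    rcases Nat.eq_zero_or_pos (n ψ) with z | z
    · simp [z]
    have d : n ψ * deg ψ ≤ 121 := by
      rw [e] at h4
      exact (Finset.single_le_sum (f := fun ψ => n ψ * deg ψ) (fun _ _ => Nat.zero_le _)
        (Finset.mem_univ ψ)).trans h4.le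
    exact mul_nonpos_of_nonneg_of_nonpos (by positivity) (k _ (L.ty (Finset.ne_of_mem_erase hψ))
      (by show deg ψ ≤ 121; nlinarith) fun f => (L.odd_deg f o).trans e)
  omega

theorem sty {χ : IrrCharacter G} (h1 : χ ≠ one1 G) {s : ℤ} (hs : s = 1 ∨ s = -1) :
    (s * deg χ, s * tr x χ, s * vl y χ) ∈ STY := by
  simp only [STY, List.mem_flatMap, List.mem_filter, bne_iff_ne]
  refine ⟨_, ⟨L.ty h1, L.no11 χ⟩, ?_⟩
  rcases hs with rfl | rfl <;> simp

theorem sr {χ : IrrCharacter G} (h1 : χ ≠ one1 G) {s p e : ℤ} (hs : s = 1 ∨ s = -1)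
    (h : p ∣ s * deg χ - e) : (s * deg χ, s * tr x χ, s * vl y χ) ∈ SR p e :=
  List.mem_filter.2 ⟨L.sty h1 hs, by simpa using Int.emod_eq_zero_of_dvd h⟩

/-- the automizer of a Sylow 5-subgroup -/
theorem e5 (h : DefOne 5 r) : Nat.card h.H = 4 := by
  obtain ⟨-, -, -, h4, h5⟩ := loc_num L.nc h (m := 48964608) L.hN
  have h6 := Nat.le_of_dvd (by norm_num) h4
  have h7 : Nat.card h.H ≠ 3 := fun e => by rw [e] at h4; omega
  by_contra h8
  obtain ⟨T⟩ := exists_gen h (n := 1) (by omega)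
  have a := T.sum_deg
  have b := L.gen_x T (by decide)
  have c := L.gen_y T (by decide)
  rw [Fin.sum_univ_one] at a b c
  exact chk52 _ (L.sr (T.ne_one 0) (T.s_eq 0) (T.mod 0)) _ (L.sty (T.X1 _ T.E_mem) T.s0_eq) a b c

theorem idx {p : ℕ} [Fact p.Prime] {z : G} (h : DefOne p z) {m : ℕ} (hm : 244823040 = p * m) :
    Nat.card h.V ∈ L23.dv ∧ m % (Nat.card h.H * Nat.card h.V) = 0 ∧
      m / (Nat.card h.H * Nat.card h.V) % p = 1 ∧ (Cx z).index = m / Nat.card h.V := by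
  obtain ⟨h1, h2, -⟩ := loc_num L.nc h (m := m) (L.hN.trans hm)
  have a : 0 < Nat.card h.H := Nat.card_pos
  have b : 0 < Nat.card h.V := Nat.card_pos
  refine ⟨L23.mem_dv (hm ▸ h1 ▸ (dvd_mul_left _ _).mul_left _), ?_, ?_, ?_⟩
  · rw [← h1, mul_assoc, Nat.mul_mod_left]
  · rw [← h1, mul_assoc, Nat.mul_div_cancel _ (by positivity), h2]
  · rw [← h1, Nat.mul_div_cancel _ b, h.index_Cx]

theorem b5' {h : DefOne 5 r} (F : Full h 4) : (Nat.card h.V ∈ [2, 12, 32, 192] ∧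
    (F.s 3 * deg (F.c 3) = 6831 → Nat.card h.V ∈ [2, 32])) ∧
    (F.s 0 * deg (F.c 0), F.s 1 * deg (F.c 1), F.s 2 * deg (F.c 2), F.s 3 * deg (F.c 3)) ∈
      [((-7084 : ℤ), (-5544 : ℤ), (5796 : ℤ), (6831 : ℤ)), (-5544, -2024, 736, 6831),
      (-5544, -2024, 1771, 5796), (-5544, -759, 506, 5796), (-5544, 736, 1771, 3036)] := by
  have a := F.sum_deg
  have b := L.full_x F (by decide)
  have c := L.full_y F (by decide)
  rw [Fin.sum_univ_four] at a b c
  have m := fun j => L.sr (F.ne_one j) (F.s_eq j) (F.mod j)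
  have o : ∀ i j, F.s i * tr x (F.c i) % 2 = 1 → F.s j * tr x (F.c j) % 2 = 1 →
      (F.s i * deg (F.c i)).natAbs = (F.s j * deg (F.c j)).natAbs := fun i j e f => by
    have := L.odd_deg (χ := F.c i) (ψ := F.c j) 
      (by rcases F.s_eq i with g | g <;> rw [g] at e <;> omega)
      (by rcases F.s_eq j with g | g <;> rw [g] at f <;> omega)
    rcases F.s_eq i with g | g <;> rcases F.s_eq j with g' | g' <;> simp [g, g', this]
  have k := chk54 _ (m 0) _ (m 1) (F.mono (by decide)) _ (m 2) (F.mono (by decide)) _ (m 3) a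
    (F.mono (by decide)) b c (by
      intro u hu e v hv f
      simp only [List.mem_cons, List.not_mem_nil, or_false] at hu hv
      rcases hu with rfl | rfl | rfl | rfl <;> rcases hv with rfl | rfl | rfl | rfl <;>
        exact o _ _ e f)
  obtain ⟨i1, i2, i3, i4⟩ := L.idx h (m := 48964608) rfl
  rw [L.e5] at i2 i3
  have d := fun j => sgn_dvd (F.s_eq j) (i4 ▸ F.dvd j)
  exact chkv5 _ i1 i2 i3 _ k (d 0) (d 1) (d 2) (d 3)

theorem v5 (h : DefOne 5 r) : Nat.card h.V ∈ [2, 12, 32, 192] :=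
  let ⟨F⟩ := exists_full h (n := 4) rfl (L.e5 h)
  (L.b5' F).1.1

end Loc

end MQ
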