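import Cfsg.Agent.MQ.B5

/-! The principal 7-block. -/

set_option autoImplicit false
set_option linter.unusedSectionVars false

namespace MQ
open Cfsg H8 H2 Subgroup
open scoped ComplexConjugate

variable {G : Type*} [Group G] [Fintype G] [IsSimpleGroup G] {x y r w : G}

theorem chk72 : ∀ a ∈ SR 7 1, ∀ b ∈ SR 7 (-2), 1 + a.1 + b.1 = 0 → 2 + a.2.1 + b.2.1 = 0 →
    1 + a.2.2 + b.2.2 = 0 → b.1 = -23 := by decide +kernel

set_option synthInstance.maxSize 2000 in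
theorem chk73 : ∀ a ∈ SR 7 1, ∀ b ∈ SR 7 1, a.1 ≤ b.1 → ∀ c ∈ SR 7 (-3), 1 + (a.1 + b.1) + c.1 = 0 →
    2 + (a.2.1 + b.2.1) + c.2.1 = 0 → 1 + (a.2.2 + b.2.2) + c.2.2 = 0 → a.1 = 2024 ∨ b.1 = 2024 →
    a.1 = -1035 ∧ b.1 = 2024 ∧ c.1 = -990 := by decide +kernel

/-- the mean of `χ` over `w V` -/
noncomputable def mu {p : ℕ} [Fact p.Prime] (k : DefOne p w) (χ : IrrCharacter G) : ℂ :=
  open Classical in (∑ v : k.V, χ.1 (w * v)) / Nat.card k.V

theorem mu_const {p : ℕ} [Fact p.Prime] (k : DefOne p w) {χ : IrrCharacter G} {a : ℂ}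
    (h : ∀ v ∈ k.V, χ.1 (w * v) = a) : mu k χ = a := by
  classical
  rw [mu, Finset.sum_congr rfl fun (v : k.V) _ => h v v.2, Finset.sum_const, Finset.card_univ,
    ← Nat.card_eq_fintype_card, nsmul_eq_mul, mul_div_cancel_left₀ _ card_ne_zero_complex]

theorem dvd_ord {p : ℕ} [Fact p.Prime] (k : DefOne p w) {v : G} (hv : v ∈ k.V) :
    p ∣ orderOf (w * v) := by
  by_contra h2
  have h3 := (k.mem_V.1 (k.mem_V'.2 ⟨mul_mem self_mem_Cx (k.V_le hv), h2⟩)).2
  have h4 := k.kap_xp_mul 1 hv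
  rw [xp_one, h3] at h4
  exact zero_ne_one h4

theorem mu_dvd {p : ℕ} [Fact p.Prime] (k : DefOne p w) {χ : IrrCharacter G} (h : p ∣ deg χ) :
    mu k χ = 0 := mu_const k fun _ hv => irr_eq_zero_of_dvd_deg k.not_sq χ h (dvd_ord k hv)

theorem Gen.mu_other {p n : ℕ} [Fact p.Prime] {k : DefOne p w} (T : Gen k n) {χ : IrrCharacter G}
    (h1 : χ ≠ one1 G) (h2 : ∀ j, T.c j ≠ χ) (h3 : χ ∉ T.X) : mu k χ = 0 := by
  classical
  have := T.other χ h1 h2 h3 1 one_ne_zero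
  rw [xp_one] at this
  rw [mu, div_eq_zero_iff]
  exact Or.inl (by convert this)

theorem Full.mu_other {p n : ℕ} [Fact p.Prime] {k : DefOne p w} (T : Full k n)
    {χ : IrrCharacter G} (h1 : χ ≠ one1 G) (h2 : ∀ j, T.c j ≠ χ) : mu k χ = 0 := by
  classical
  have := T.other χ h1 h2 1 one_ne_zero
  rw [xp_one] at this
  rw [mu, div_eq_zero_iff]
  exact Or.inl (by convert this)

namespace Loc
variable (L : Loc x y)
include L

theorem v7_5 (k : DefOne 7 w) : ¬ 5 ∣ Nat.card k.V := fun e => by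
  obtain ⟨u, hu, ou⟩ := exists_mem_V k 5 e
  have h : DefOne 5 u := ⟨ou, by rw [L.hN]; decide⟩
  have a := orderOf_dvd_natCard (Cx u) (mem_Cx.2 (mem_Cx.1 (k.V_le hu)).symm)
  have b := L.v5 h
  rw [k.ord, h.card_Cx] at a
  simp only [List.mem_cons, List.not_mem_nil, or_false] at b
  omega

theorem reg5 (k : DefOne 7 w) {g : G} (hg : g ∈ Cx w) : ¬ 5 ∣ orderOf g := fun e => by
  have := e.trans (orderOf_dvd_natCard _ hg)
  rw [k.card_Cx] at this
  exact L.v7_5 k ((Nat.Coprime.dvd_mul_left (by norm_num)).1 this)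

variable (n23 : ∀ χ : IrrCharacter G, deg χ ≠ 23)
include n23

theorem v7 (k : DefOne 7 w) : (Nat.card k.H, Nat.card k.V) ∈
    [(3, 6), (3, 48), (3, 384), (3, 3072), (6, 3), (6, 24), (6, 192), (6, 1536)] := by
  obtain ⟨-, -, -, h4, h5⟩ := loc_num L.nc k (m := 34974720) L.hN
  have h6 := Nat.le_of_dvd (by norm_num) h4
  have h7 : Nat.card k.H ≠ 2 := fun e => by
    obtain ⟨T⟩ := exists_gen k (n := 1) e
    have a := T.sum_deg
    have b := L.gen_x T (by decide)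
    have c := L.gen_y T (by decide)
    rw [Fin.sum_univ_one] at a b c
    have := chk72 _ (L.sr (T.ne_one 0) (T.s_eq 0) (T.mod 0)) _
      (L.sr (T.X1 _ T.E_mem) T.s0_eq (by simpa using T.mod0)) a b c
    exact n23 _ (deg_of_q T.s0_eq this).1
  obtain ⟨i1, i2, i3, -⟩ := L.idx k (m := 34974720) rfl
  have a := L.hy.not_dvd_card_Cx L.vy k.ne_one (by rw [k.ord]; decide)
  have b := L.hx.not_dvd_card_Cx L.vx k.ne_one (by rw [k.ord]; decide)
  have c := L.v7_5 k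
  rw [k.card_Cx] at a b
  refine chkv7 _ i1 _ ?_ i2 i3 (by omega) (by omega) (by omega)
  have : Nat.card k.H ≠ 4 := fun e => by rw [e] at h4; omega
  have : Nat.card k.H ≠ 5 := fun e => by rw [e] at h4; omega
  simp only [List.mem_cons, List.not_mem_nil, or_false]
  omega

theorem i7 (k : DefOne 7 w) : ¬ 27 ∣ (Cx w).index := by
  have a := L.v7 n23 k
  rw [(L.idx k (m := 34974720) rfl).2.2.2]
  simp only [List.mem_cons, List.not_mem_nil, or_false, Prod.mk.injEq] at a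
  rcases a with a | a | a | a | a | a | a | a <;> rw [a.2] <;> decide

/-- the possible means over `w V` -/
theorem mu7 (k : DefOne 7 w) {χ : IrrCharacter G} (h1 : χ ≠ one1 G) : mu k χ = 0 ∨
    (∃ s : ℤ, (s = 1 ∨ s = -1) ∧ mu k χ = s ∧ (7 : ℤ) ∣ s * deg χ - 1 ∧ ¬ 27 ∣ deg χ ∧
      ∀ v ∈ k.V, χ.1 (w * v) = s) ∨
    ((deg χ % 7 = 3 ∨ deg χ % 7 = 4) ∧ conj (mu k χ) ≠ mu k χ) := by
  have a := L.v7 n23 k
  have i := L.i7 n23 k
  by_cases e : Nat.card k.H = 6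
  · obtain ⟨F⟩ := exists_full k (n := 6) rfl e
    by_cases h2 : ∃ j, F.c j = χ
    · obtain ⟨j, rfl⟩ := h2
      exact Or.inr (Or.inl ⟨_, F.s_eq j, mu_const k fun v => F.val_mul j, F.mod j,
        fun c => i (c.trans (F.dvd j)), fun v => F.val_mul j⟩)
    · exact Or.inl (Full.mu_other F h1 fun j c => h2 ⟨j, c⟩)
  have e3 : Nat.card k.H = 2 + 1 := by
    simp only [List.mem_cons, List.not_mem_nil, or_false, Prod.mk.injEq] at a
    omega
  obtain ⟨T⟩ := exists_gen k e3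
  have t := T.two e3 rfl (by decide)
  by_cases h2 : ∃ j, T.c j = χ
  · obtain ⟨j, rfl⟩ := h2
    exact Or.inr (Or.inl ⟨_, T.s_eq j, mu_const k fun v => T.val_mul j, T.mod j,
      fun c => i (c.trans (T.dvd j)), fun v => T.val_mul j⟩)
  by_cases h3 : χ ∈ T.X
  · refine Or.inr (Or.inr ⟨?_, ?_⟩)
    · have := T.mod0
      rw [T.deg_X h3]
      rcases T.s0_eq with c | c <;> rw [c] at this <;> omega
    · obtain ⟨l, hl⟩ := T.eta χ h3
      have b : ∀ v ∈ k.V, χ.1 (w * v) = χ.1 w := fun v hv => by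
        have b1 := hl 1 one_ne_zero v hv
        have b2 := hl 1 one_ne_zero 1 (one_mem _)
        rw [xp_one] at b1 b2
        rw [b1, ← b2, mul_one]
      rw [mu_const k b, char_conj_eq (irr_isCharacter χ.2)]
      rcases (t.X_eq χ).1 h3 with rfl | rfl
      · exact t.ne
      · rw [cc_apply, cc_apply, inv_inv]; exact t.ne.symm
  · exact Or.inl (T.mu_other h1 (fun j c => h2 ⟨j, c⟩) h3)

theorem mu_rel {h : DefOne 5 r} (F : Full h 4) (k : DefOne 7 w) :
    1 + ∑ j, F.s j * mu k (F.c j) = 0 := by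
  classical
  have a : ∑ v : k.V, (1 + ∑ j, F.s j * (F.c j).1 (w * v)) = 0 := Finset.sum_eq_zero fun v _ =>
    F.lin _ (L.reg5 k (mul_mem self_mem_Cx (k.V_le v.2)))
  rw [Finset.sum_add_distrib, Finset.sum_comm, Finset.sum_const, Finset.card_univ,
    ← Nat.card_eq_fintype_card, nsmul_eq_mul, mul_one] at a
  have c := card_ne_zero_complex (G := k.V)
  simp only [mu, ← mul_div_assoc, ← Finset.sum_div, Finset.mul_sum]
  rw [eq_neg_of_add_eq_zero_right a, neg_div, div_self c, add_neg_cancel]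

/-- the two remaining principal 5-blocks; the character of degree 2024 is `1` on `w V` -/
theorem b5 {h : DefOne 5 r} (F : Full h 4) :
    (F.s 0 = -1 ∧ deg (F.c 0) = 5544) ∧ (F.s 1 = -1 ∧ deg (F.c 1) = 2024) ∧
    (F.s 2 = 1 ∧ F.s 3 = 1) ∧
    (deg (F.c 2) = 1771 ∧ deg (F.c 3) = 5796 ∨
      deg (F.c 2) = 736 ∧ deg (F.c 3) = 6831 ∧ Nat.card h.V ∈ [2, 32]) ∧
    ∀ (w : G) (k : DefOne 7 w), ∀ v ∈ k.V, (F.c 1).1 (w * v) = 1 := by
  obtain ⟨⟨-, b1⟩, b⟩ := L.b5' F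
  obtain ⟨w0, k0⟩ := exists_defOne (G := G) (p := 7) (m := 34974720) L.hN (by decide)
  have m := fun (w : G) (k : DefOne 7 w) j => L.mu7 n23 k (F.ne_one j)
  have z := fun (w : G) (k : DefOne 7 w) j => mu_dvd k (χ := F.c j)
  have R := fun (w : G) (k : DefOne 7 w) => L.mu_rel n23 F k
  have z' : ∀ (w : G) (k : DefOne 7 w) j, deg (F.c j) = 6831 ∨ deg (F.c j) = 506 ∨
      deg (F.c j) = 3036 → mu k (F.c j) = 0 := fun w k j e => by
    rcases m w k j with c | ⟨s, c1, -, c2, c3, -⟩ | c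
    · exact c
    · rcases c1 with rfl | rfl <;> omega
    · omega
  have o : ∀ (w : G) (k : DefOne 7 w) j, deg (F.c j) % 7 = 1 → mu k (F.c j) = 0 ∨
      (mu k (F.c j) = 1 ∧ ∀ v ∈ k.V, (F.c j).1 (w * v) = 1) := fun w k j e => by
    rcases m w k j with c | ⟨s, c1, c4, c2, c3, c5⟩ | c
    · exact Or.inl c
    · obtain rfl : s = 1 := by rcases c1 with rfl | rfl <;> omega
      exact Or.inr ⟨by simpa using c4, by simpa using c5⟩
    · omega
  simp only [Fin.sum_univ_four] at R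
  simp only [List.mem_cons, List.not_mem_nil, or_false, Prod.mk.injEq] at b
  have D := fun j {q} (e : F.s j * deg (F.c j) = q) => deg_of_q (F.s_eq j) e
  rcases b with ⟨b0, b1', b2, b3⟩ | ⟨b0, b1', b2, b3⟩ | ⟨b0, b1', b2, b3⟩ | ⟨b0, b1', b2, b3⟩ |
    ⟨b0, b1', b2, b3⟩ <;> obtain ⟨d0, p0, m0⟩ := D 0 b0 <;> obtain ⟨d1, p1, m1⟩ := D 1 b1' <;>
    obtain ⟨d2, p2, m2⟩ := D 2 b2 <;> obtain ⟨d3, p3, m3⟩ := D 3 b3 <;>
    norm_num at d0 d1 d2 d3 p0 p1 p2 p3 m0 m1 m2 m3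
  · have := R w0 k0
    rw [z _ _ 0 (by omega), z _ _ 1 (by omega), z _ _ 2 (by omega), z' _ _ 3 (by omega)] at this
    simp at this
  · refine ⟨⟨m0, d0⟩, ⟨m1, d1⟩, ⟨p2, p3⟩, Or.inr ⟨d2, d3, b1 b3⟩, fun w k => ?_⟩
    have := R w k
    rw [z _ _ 0 (by omega), z' _ _ 3 (by omega), m1, p2] at this
    refine ((o w k 1 (by omega)).resolve_left fun c => ?_).2
    rcases o w k 2 (by omega) with c' | ⟨c', -⟩ <;> rw [c, c'] at this <;> norm_num at this
  · refine ⟨⟨m0, d0⟩, ⟨m1, d1⟩, ⟨p2, p3⟩, Or.inl ⟨d2, d3⟩, fun w k => ?_⟩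
    have := R w k
    rw [z _ _ 0 (by omega), z _ _ 2 (by omega), z _ _ 3 (by omega)] at this
    refine ((o w k 1 (by omega)).resolve_left fun c => ?_).2
    rw [c] at this; norm_num at this
  · have := R w0 k0
    rw [z _ _ 0 (by omega), z' _ _ 2 (by omega), z _ _ 3 (by omega), m1] at this
    have e : mu k0 (F.c 1) = 1 := by push_cast at this; linear_combination -this
    rcases m w0 k0 1 with c | ⟨s, c1, -, c2, -⟩ | c
    · rw [e] at c; simp at c
    · rcases c1 with rfl | rfl <;> omega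
    · rw [e] at c; simp at c
  · have := R w0 k0
    rw [z _ _ 0 (by omega), z _ _ 2 (by omega), z' _ _ 3 (by omega), p1] at this
    rcases o w0 k0 1 (by omega) with c' | ⟨c', -⟩ <;> rw [c'] at this <;> norm_num at this

/-- the principal 7-block when the automizer has order three -/
theorem b73 {k : DefOne 7 w} (e3 : Nat.card k.H = 3) (T : Gen k 2) {h : DefOne 5 r}
    (F : Full h 4) :
    (T.s 0 = -1 ∧ deg (T.c 0) = 1035) ∧ (T.s 1 = 1 ∧ T.c 1 = F.c 1) ∧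
      (T.s0 = -1 ∧ deg T.E = 990) ∧ Nat.card k.V ∈ [6, 48, 384] := by
  obtain ⟨-, ⟨-, d⟩, -, -, c⟩ := L.b5 n23 F
  have a := T.sum_deg
  have b := L.gen_x T (by decide)
  have e := L.gen_y T (by decide)
  rw [Fin.sum_univ_two] at a b e
  obtain ⟨j, hj⟩ : ∃ j, T.c j = F.c 1 :=
    (T.mem_of_const (F.ne_one 1) one_ne_zero (c w k)).resolve_right fun f => by
      have := T.mod0
      rw [← T.deg_X f, d] at this
      rcases T.s0_eq with g | g <;> rw [g] at this <;> omega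
  have q : T.s j * deg (T.c j) = 2024 := by
    have := T.mod j
    rw [hj, d] at this ⊢
    rcases T.s_eq j with g | g <;> rw [g] at this ⊢ <;> omega
  obtain ⟨k0, k1, k2⟩ := chk73 _ (L.sr (T.ne_one 0) (T.s_eq 0) (T.mod 0)) _
    (L.sr (T.ne_one 1) (T.s_eq 1) (T.mod 1)) (T.mono (by decide)) _
    (L.sr (T.X1 _ T.E_mem) T.s0_eq (by simpa using T.mod0)) a b e (by
      fin_cases j
      exacts [Or.inl q, Or.inr q])
  obtain rfl : j = 1 := by
    fin_cases j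
    · exact absurd (q.symm.trans k0) (by decide)
    · rfl
  have D0 := deg_of_q (T.s_eq 0) k0
  have D2 := deg_of_q T.s0_eq k2
  refine ⟨⟨D0.2.2 (by decide), D0.1⟩, ⟨(deg_of_q (T.s_eq 1) k1).2.1 (by decide), hj⟩,
    ⟨D2.2.2 (by decide), D2.1⟩, ?_⟩
  have v := L.v7 n23 k
  have i := T.dvd 1
  rw [hj, d, (L.idx k (m := 34974720) rfl).2.2.2] at i
  simp only [e3, List.mem_cons, List.not_mem_nil, or_false, Prod.mk.injEq] at v ⊢
  have : Nat.card k.V ≠ 3072 := fun c => by rw [c] at i; omega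
  omega

end Loc

end MQ
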