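import Cfsg.Agent.MQ.L23

/-! Simple groups of order 244823040: finite checks for the case `e = 10`, `|V| = 12`. -/

set_option autoImplicit false
set_option linter.unusedSectionVars false

namespace MQ.Ld

/-- signed types in the principal 5-block -/
def N5 : List (ℤ × ℤ × ℤ) := [(-12144, 0, 0), (-10304, 0, 0), (-7084, 0, 0), (-6624, 0, 0),
  (-5544, -2, 0), (-4554, 0, 0), (-3864, 0, 0), (-2944, 0, 0), (-2024, 0, 0), (-1449, 0, 0),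
  (-1104, 0, 0), (-759, 0, 0), (-644, 0, 0), (-414, 0, 0), (-264, 1, 0), (-184, 0, 0), (-69, 0, 0),
  (46, 0, 0), (126, -1, 0), (161, 0, 0), (231, 2, 0), (276, 0, 0), (276, 0, 1), (506, 0, 0),
  (576, 2, 0), (736, 0, -1), (736, 0, 0), (896, -2, 0), (966, 0, 0), (1656, 0, 0), (1771, 0, 0),
  (2576, 0, 0), (3036, 0, 0), (4416, 0, 0), (5796, 0, -1), (5796, 0, 0), (6336, -1, 0),
  (8096, 0, 0), (9856, 1, 0), (10626, 0, 0), (15456, 0, 0), (15456, 0, 1)]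
/-- signed types of exceptional characters -/
def E5 : List (ℤ × ℤ × ℤ) := [(-12672, 2, 0), (-11592, 0, 0), (-8832, 0, 0), (-8832, 0, 1),
  (-6072, 0, 0), (-5152, 0, 0), (-3542, 0, 0), (-3312, 0, -1), (-3312, 0, 0), (-2772, -1, 0),
  (-2277, 0, 0), (-1932, 0, 0), (-1472, 0, 0), (-1012, 0, 0), (-552, 0, 0), (-322, 0, 0),
  (-252, 2, 0), (-252, 2, 1), (-207, 0, 0), (-92, 0, 0), (-22, 2, 0), (-12, -1, -1), (-12, -1, 0),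
  (23, 0, 0), (23, 0, 1), (138, 0, 0), (253, 0, 0), (288, 1, 0), (368, 0, 0), (448, -1, 0),
  (483, 0, -1), (483, 0, 0), (528, -2, 0), (828, 0, 0), (1288, 0, 0), (1288, 0, 1), (1518, 0, 0),
  (2208, 0, 0), (2898, 0, 0), (4048, 0, 0), (5313, 0, 0), (7728, 0, 0), (9108, 0, 0),
  (13248, 0, 0), (14168, 0, 0)]

set_option synthInstance.maxSize 2000 in
theorem chk1 : ∀ d ∈ L23.dv, 2040192 % d = 0 → 10 < d → d * d ≤ 244823040 →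
    ∀ t ∈ [(-2 : ℤ), -1, 0, 1, 2], ((d : ℤ) + 11 * t) % 23 = 0 → ∀ m ∈ [(-1 : ℤ), 0, 1],
    (m = 0 ∨ (1854720 % d = 0 ∧ (m * d - 1) % 11 = 0)) → ∀ s ∈ [(1 : ℤ), -1],
    ((s * d - 1) % 5 = 0 → d = 11 ∨ d = 24 ∨ (s * d, s * t, s * m) ∈ N5) ∧
    ((s * d + 2) % 5 = 0 → (s * d, s * t, s * m) ∈ E5) := by decide +kernel

theorem chk2 : ∀ a ∈ N5, ∀ b ∈ E5, 1 + a.1 + b.1 = 0 → 2 + a.2.1 + b.2.1 = 0 →
    1 + a.2.2 + b.2.2 ≠ 0 := by decide +kernel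

/-- the possible pairs (trace, mean) -/
def P5 : List (ℤ × ℤ) := [(0, 0), (-2, 0), (1, 0), (-1, 0), (2, 0), (0, 1), (0, -1)]

theorem memP : ∀ d ∈ N5, d.2 ∈ P5 := by decide +kernel

set_option synthInstance.maxSize 2000 in
theorem chk4' : ∀ a ∈ N5, a.1 < 0 → ∀ b ∈ N5, a.1 ≤ b.1 → ∀ c ∈ N5, b.1 ≤ c.1 →
    (-2 - (a.2.1 + b.2.1 + c.2.1), -1 - (a.2.2 + b.2.2 + c.2.2)) ∈ P5 → ∀ d ∈ N5,
    1 + (a.1 + b.1 + c.1 + d.1) = 0 → c.1 ≤ d.1 → 2 + (a.2.1 + b.2.1 + c.2.1 + d.2.1) = 0 →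
    1 + (a.2.2 + b.2.2 + c.2.2 + d.2.2) = 0 → (a.1 = -5544 ∧ d.1 = 5796 ∧ d.2.2 = -1) ∨
    (a.1, b.1, c.1, d.1) ∈ [(-6624, -69, 896, 5796), (-5544, 736, 1771, 3036),
      (-1449, -184, 736, 896)] := by decide +kernel

theorem chk4 : ∀ a ∈ N5, ∀ b ∈ N5, a.1 ≤ b.1 → ∀ c ∈ N5, b.1 ≤ c.1 → ∀ d ∈ N5,
    1 + (a.1 + b.1 + c.1 + d.1) = 0 → c.1 ≤ d.1 → 2 + (a.2.1 + b.2.1 + c.2.1 + d.2.1) = 0 →
    1 + (a.2.2 + b.2.2 + c.2.2 + d.2.2) = 0 → (a.1 = -5544 ∧ d.1 = 5796 ∧ d.2.2 = -1) ∨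
    (a.1, b.1, c.1, d.1) ∈ [(-6624, -69, 896, 5796), (-5544, 736, 1771, 3036),
      (-1449, -184, 736, 896)] := fun a ha b hb h1 c hc h2 d hd h3 h4 h5 h6 =>
  chk4' a ha (by omega) b hb h1 c hc h2 (by
    rw [show -2 - (a.2.1 + b.2.1 + c.2.1) = d.2.1 by omega,
      show -1 - (a.2.2 + b.2.2 + c.2.2) = d.2.2 by omega]
    exact memP d hd) d hd h3 h4 h5 h6

set_option synthInstance.maxSize 2000 in
theorem chkl : ∀ l ∈ L23.dv, 2040192 % l = 0 → l % 5 = 4 →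
    ∀ t ∈ [((-6624 : ℤ), (-69 : ℤ), (896 : ℤ), (5796 : ℤ)), (-5544, 736, 1771, 3036),
      (-1449, -184, 736, 896)], t.1 ∣ l → t.2.1 ∣ l → t.2.2.1 ∣ l → ¬ t.2.2.2 ∣ l := by
  decide +kernel

theorem chk11 : ∀ d ∈ L23.dv, 1854720 % d = 0 → 22 < d → d * d ≤ 244823040 →
    ∀ t ∈ [(-2 : ℤ), -1, 0, 1, 2], ((d : ℤ) + 11 * t) % 23 = 0 → ∀ s ∈ [(1 : ℤ), -1],
    (s * d - 1) % 11 = 0 → s * t < 0 → d = 45 ∨ d = 3840 := by decide +kernel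

set_option synthInstance.maxSize 2000 in
theorem chk3 : ∀ c ∈ L23.dv, c % 110 = 0 → c % 23 ≠ 0 → ∀ i ∈ List.range 36,
    (((244823040 / c : ℕ) : ℤ) * (220 * i - 3860)) % 3840 = 0 →
    (220 * i - 3860 : ℤ) * (220 * i - 3860) ≤ c → ∀ j ∈ List.range 54,
    (((244823040 / c : ℕ) : ℤ) * (220 * j - 5864)) % 5796 = 0 → ∀ l ∈ List.range 54,
    (((244823040 / c : ℕ) : ℤ) * (220 * l - 5676)) % 5544 = 0 →
    (c : ℤ) < (220 * i - 3860) * (220 * i - 3860) + (220 * j - 5864) * (220 * j - 5864) +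
      (220 * l - 5676) * (220 * l - 5676) := by decide +kernel

end MQ.Ld
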