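import Cfsg.Agent.MQ.L23

/-! Simple groups of order 244823040, `e₁₁ = 5`: the numerical checks. -/

set_option autoImplicit false
set_option linter.unusedSectionVars false

namespace MQ.Le
open H2 L23

/-- the signed trace at an element of order 23 -/
def tf (q : ℤ) : ℤ := (2 * q + 11) % 23 - 11

/-- the signed degrees of the non-exceptional characters -/
def S5 : List ℤ := [
  -12880, -8832, -5796, -3024, -2760, -1242, -736, -483, -252, -230, 23, 276, 540, 1035, 1288,
  3312, 3840, 4830, 7360, 12420, 15456]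

/-- the signed degrees of the exceptional characters -/
def E5 : List ℤ := [
  -10752, -6440, -4416, -2898, -1380, -896, -621, -368, -126, -115, 138, 160, 644, 1656, 1920,
  2415, 3680, 6210, 7728, 11776]

/-- the degree patterns -/
def D5 : List (ℤ × ℤ × ℤ × ℤ × ℤ) := [
  (-12880, -8832, 3840, 15456, 2415), (-12880, -5796, 3840, 12420, 2415),
  (-12880, -5796, 3840, 15456, -621), (-12880, -2760, 23, 3840, 11776),
  (-12880, -2760, 23, 15456, 160), (-12880, -2760, 3840, 12420, -621),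
  (-12880, -736, 1035, 12420, 160), (-12880, -736, 3840, 7360, 2415),
  (-12880, -483, 3312, 3840, 6210), (-12880, -483, 3840, 12420, -2898),
  (-12880, 23, 276, 12420, 160), (-12880, 23, 540, 540, 11776), (-12880, 23, 1288, 3840, 7728),
  (-12880, 23, 3840, 7360, 1656), (-12880, 23, 3840, 15456, -6440),
  (-12880, 276, 1035, 3840, 7728), (-12880, 540, 540, 12420, -621),
  (-12880, 1035, 3840, 7360, 644), (-12880, 1035, 3840, 12420, -4416),
  (-12880, 3312, 3312, 3840, 2415), (-12880, 3840, 4830, 4830, -621),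
  (-8832, -2760, 23, 3840, 7728), (-8832, -1242, 23, 3840, 6210),
  (-8832, -736, -483, 3840, 6210), (-8832, -736, 3312, 3840, 2415),
  (-8832, -483, 3840, 4830, 644), (-8832, 23, 540, 540, 7728), (-8832, 23, 1288, 3840, 3680),
  (-8832, 23, 1288, 7360, 160), (-8832, 23, 3312, 3840, 1656), (-8832, 23, 3840, 4830, 138),
  (-8832, 276, 1035, 3840, 3680), (-8832, 276, 1035, 7360, 160),
  (-8832, 276, 3840, 4830, -115), (-8832, 1035, 3312, 3840, 644),
  (-8832, 1288, 1288, 3840, 2415), (-5796, -5796, 23, 3840, 7728),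
  (-5796, -2760, 1035, 3840, 3680), (-5796, -2760, 1035, 7360, 160),
  (-5796, -2760, 3840, 4830, -115), (-5796, -1242, -483, 3840, 3680),
  (-5796, -1242, -483, 7360, 160), (-5796, -1242, 3312, 3840, -115),
  (-5796, -736, 276, 3840, 2415), (-5796, -736, 1035, 3840, 1656),
  (-5796, -736, 3312, 3840, -621), (-5796, -483, 23, 3840, 2415),
  (-5796, -483, 1288, 4830, 160), (-5796, -230, -230, 3840, 2415),
  (-5796, -230, 1035, 4830, 160), (-5796, 23, 276, 3840, 1656), (-5796, 23, 540, 3312, 1920),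
  (-5796, 23, 1288, 3840, 644), (-5796, 23, 3312, 3840, -1380), (-5796, 23, 3840, 4830, -2898),
  (-5796, 276, 1035, 3840, 644), (-5796, 540, 540, 1035, 3680), (-5796, 540, 540, 4830, -115),
  (-5796, 1035, 1035, 3840, -115), (-5796, 1035, 1288, 3312, 160),
  (-5796, 1035, 1288, 3840, -368), (-5796, 1035, 3840, 7360, -6440),
  (-5796, 1288, 1288, 3840, -621), (-3024, -2760, 23, 3840, 1920),
  (-3024, -1242, 540, 3840, -115), (-3024, -736, 540, 3840, -621), (-3024, 23, 540, 540, 1920),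
  (-3024, 23, 540, 3840, -1380), (-3024, 540, 1035, 1288, 160),
  (-2760, -2760, -736, 3840, 2415), (-2760, -2760, 23, 3840, 1656),
  (-2760, -2760, 1035, 3840, 644), (-2760, -1242, -483, 3840, 644),
  (-2760, -1242, 23, 3840, 138), (-2760, -1242, 276, 3840, -115),
  (-2760, -736, -483, 3840, 138), (-2760, -736, -230, 3840, -115),
  (-2760, -736, 23, 3312, 160), (-2760, -736, 23, 3840, -368), (-2760, -736, 276, 3840, -621),
  (-2760, -736, 540, 540, 2415), (-2760, -736, 540, 1035, 1920),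
  (-2760, -736, 1035, 3840, -1380), (-2760, -483, -483, 3840, -115),
  (-2760, -483, -230, 3312, 160), (-2760, -483, -230, 3840, -368),
  (-2760, -483, 23, 3840, -621), (-2760, -230, -230, 3840, -621), (-2760, 23, 276, 540, 1920),
  (-2760, 23, 276, 3840, -1380), (-2760, 23, 540, 540, 1656), (-2760, 23, 1288, 1288, 160),
  (-2760, 23, 3312, 3840, -4416), (-2760, 276, 1035, 1288, 160), (-2760, 540, 540, 1035, 644),
  (-1242, -1242, -1242, 3840, -115), (-1242, -1242, -736, 3840, -621),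
  (-1242, -1242, 23, 540, 1920), (-1242, -1242, 23, 3840, -1380),
  (-1242, -1242, 1035, 1288, 160), (-1242, -736, -483, 540, 1920),
  (-1242, -736, -483, 3840, -1380), (-1242, -736, 1035, 3840, -2898),
  (-1242, -483, 276, 1288, 160), (-1242, -483, 540, 540, 644), (-1242, -230, 23, 1288, 160),
  (-1242, -230, 276, 1035, 160), (-1242, 23, 23, 1035, 160), (-1242, 23, 276, 3840, -2898),
  (-1242, 23, 540, 540, 138), (-1242, 276, 540, 540, -115), (-736, -736, 23, 1288, 160),
  (-736, -736, 276, 1035, 160), (-736, -483, -230, 1288, 160), (-736, -483, 23, 1035, 160),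
  (-736, -483, 276, 3840, -2898), (-736, -483, 540, 540, 138), (-736, -230, -230, 1035, 160),
  (-736, -230, 23, 3840, -2898), (-736, -230, 540, 540, -115), (-736, 23, 276, 276, 160),
  (-736, 23, 540, 540, -368), (-736, 23, 1288, 3840, -4416), (-736, 23, 3312, 3840, -6440),
  (-736, 276, 540, 540, -621), (-736, 276, 1035, 3840, -4416), (-736, 540, 540, 1035, -1380),
  (-483, -483, -483, 1288, 160), (-483, -483, -230, 1035, 160), (-483, -483, 23, 3840, -2898),
  (-483, -483, 540, 540, -115), (-483, -230, -230, 3840, -2898), (-483, -230, 276, 276, 160),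
  (-483, -230, 540, 540, -368), (-483, -230, 1288, 3840, -4416),
  (-483, -230, 3312, 3840, -6440), (-483, 23, 23, 276, 160), (-483, 23, 540, 540, -621),
  (-483, 23, 1035, 3840, -4416), (-230, -230, 23, 276, 160), (-230, -230, 540, 540, -621),
  (-230, -230, 1035, 3840, -4416), (-230, 23, 23, 23, 160), (23, 276, 276, 3840, -4416),
  (23, 276, 540, 540, -1380), (23, 540, 540, 3312, -4416), (23, 1288, 1288, 3840, -6440),
  (276, 1035, 1288, 3840, -6440)]

/-- the degree patterns when `24 ∣ |V|` -/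
def D5' : List (ℤ × ℤ × ℤ × ℤ × ℤ) := [
  (-12880, -2760, 23, 15456, 160), (-8832, 23, 1288, 7360, 160), (-8832, 276, 1035, 7360, 160),
  (-5796, -2760, 1035, 7360, 160), (-5796, -483, 1288, 4830, 160),
  (-5796, -230, 1035, 4830, 160), (-5796, 1035, 1288, 3312, 160), (-2760, -736, 23, 3312, 160),
  (-2760, -483, -230, 3312, 160), (-2760, 23, 1288, 1288, 160), (-2760, 276, 1035, 1288, 160),
  (-736, -736, 23, 1288, 160), (-736, -736, 276, 1035, 160), (-736, -483, -230, 1288, 160),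
  (-736, -483, 23, 1035, 160), (-736, -230, -230, 1035, 160), (-736, 23, 276, 276, 160),
  (-483, -483, -483, 1288, 160), (-483, -483, -230, 1035, 160), (-483, -230, 276, 276, 160),
  (-483, 23, 23, 276, 160), (-230, -230, 23, 276, 160), (-230, 23, 23, 23, 160)]

theorem chkS : ∀ d ∈ dv, 11128320 % d = 0 → 22 < d → d * d ≤ 244823040 → ∀ s ∈ [(1 : ℤ), -1],
    -2 ≤ tf (s * d) → tf (s * d) ≤ 2 →
    ((s * d - 1) % 11 = 0 → s * d = 45 ∨ s * d ∈ S5) ∧ ((s * d + 5) % 11 = 0 → s * d ∈ E5) := by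
  decide +kernel

theorem chkD : ∀ a ∈ S5, ∀ b ∈ S5, a ≤ b → ∀ c ∈ S5, b ≤ c → ∀ d ∈ S5, c ≤ d →
    2 + (tf a + tf b + tf c + tf d) + tf (-1 - a - b - c - d) = 0 → -1 - a - b - c - d ∈ E5 →
    (a, b, c, d, -1 - a - b - c - d) ∈ D5 := by
  decide +kernel

theorem chkD' : ∀ t ∈ D5, 927360 % t.1 = 0 → 927360 % t.2.1 = 0 → 927360 % t.2.2.1 = 0 →
    927360 % t.2.2.2.1 = 0 → 927360 % t.2.2.2.2 = 0 → t ∈ D5' := by
  decide +kernel

/-- the possible values at the involution -/
def vl (K C q : ℤ) : List ℤ :=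
  ((List.range 150).map fun i : ℕ => q % 44 + 44 * ((i : ℤ) - 75)).filter fun a =>
    decide (a * a < C) && decide (a * a < q * q) && (K * a) % q == 0

theorem mem_vl {K C q a : ℤ} (hC : C ≤ 10644480) (h1 : 44 ∣ a - q) (h2 : q ∣ K * a)
    (h3 : a * a < C) (h4 : a * a < q * q) : a ∈ vl K C q := by
  simp only [vl, List.mem_filter, List.mem_map, List.mem_range, Bool.and_eq_true, beq_iff_eq,
    decide_eq_true_eq]
  have h5 : -3263 < a := by nlinarith
  have h6 : a < 3263 := by nlinarith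
  exact ⟨⟨(a / 44 + 75).toNat, by omega, by omega⟩, ⟨h3, h4⟩, Int.emod_eq_zero_of_dvd h2⟩

/-- no cross relation with the principal 7-block -/
def n7 (q a : ℤ) : Bool := q % 7 == 0 || (a - q) % 7 != 0

/-- the check for one degree pattern -/
def ok (K C : ℤ) (f : Bool) : ℤ × ℤ × ℤ × ℤ × ℤ → Bool
  | (q0, q1, q2, q3, d) => (vl K C d).all fun b => (vl K C q1).all fun a1 =>
    (vl K C q2).all fun a2 => (vl K C q3).all fun a3 =>
      quadF 11128320 q0 q1 q2 q3 d (-1 - a1 - a2 - a3 - b) a1 a2 a3 b != 0 ||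
      (K * (-1 - a1 - a2 - a3 - b)) % q0 != 0 ||
      (f && n7 q0 (-1 - a1 - a2 - a3 - b) && n7 q1 a1 && n7 q2 a2 && n7 q3 a3 && n7 d b)

theorem chkA : ∀ t ∈ D5', ok 2225664 10644480 false t = true := by decide +kernel

theorem chkB : ∀ C ∈ [(110 : ℤ), 1320, 6160, 15840, 73920, 190080, 887040, 10644480], ∀ t ∈ D5,
    ok (244823040 / C) C (C % 7 == 0) t = true := by decide +kernel

theorem chkV : ∀ v ∈ dv, v % 11 = 2 → 22256640 % (5 * v) = 0 → ¬ 7 ∣ v → ¬ 23 ∣ v →
    v ∈ [2, 24, 288, 3456] := by decide +kernel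

theorem chkC : ∀ n ∈ dv, n % 11 = 1 → 10644480 % (n * 110) = 0 →
    ((n * 110 : ℕ) : ℤ) ∈ [(110 : ℤ), 1320, 6160, 15840, 73920, 190080, 887040, 10644480] := by
  decide +kernel

theorem of_ok {K C q0 q1 q2 q3 d a0 a1 a2 a3 b : ℤ} {f : Bool}
    (h : ok K C f (q0, q1, q2, q3, d) = true) (h0 : q0 ∣ K * a0) (h1 : a1 ∈ vl K C q1)
    (h2 : a2 ∈ vl K C q2) (h3 : a3 ∈ vl K C q3) (hb : b ∈ vl K C d)
    (hl : 1 + (a0 + a1 + a2 + a3) + b = 0)
    (hq : quadF 11128320 q0 q1 q2 q3 d a0 a1 a2 a3 b = 0) :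
    f = true ∧ n7 q0 a0 = true ∧ n7 q1 a1 = true ∧ n7 q2 a2 = true ∧ n7 q3 a3 = true ∧
      n7 d b = true := by
  simp only [ok, List.all_eq_true] at h
  have := h b hb a1 h1 a2 h2 a3 h3
  rw [show -1 - a1 - a2 - a3 - b = a0 by omega, hq, Int.emod_eq_zero_of_dvd h0] at this
  simpa [and_assoc] using this

end MQ.Le
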