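import Cfsg.Agent.MQ.NA
import Cfsg.Agent.MQ.K
import Cfsg.Agent.MQ.D3s

/-! The case `e₇ = 6`: glue. -/

set_option autoImplicit false
set_option linter.unusedSectionVars false

namespace MQ
open Cfsg H8 H2 Subgroup D3

variable {G : Type*} [Group G] [Fintype G] [IsSimpleGroup G] {x y w : G}

theorem Loc.not_e76' (L : Loc x y) (n12 : ∀ χ : IrrCharacter G, deg χ ≠ 12)
    (n23 : ∀ χ : IrrCharacter G, deg χ ≠ 23) (k : DefOne 7 w) (e6 : Nat.card k.H = 6)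
    (h252 : ∃ α : IrrCharacter G, deg α = 252)
    (h3840 : (∀ χ : IrrCharacter G, deg χ ≠ 45) → ∃ χ : IrrCharacter G, deg χ = 3840)
    (opt : (∀ χ : IrrCharacter G, deg χ ≠ 45) → ∀ (χ : IrrCharacter G)
      (ψ : Fin 4 → IrrCharacter G) (ε : Fin 4 → ℤ), deg χ = 3840 →
      Function.Injective ψ → (∀ i, ψ i ≠ χ) → (∀ i, ε i = 1 ∨ ε i = -1) →
      (∀ g, ¬ 2 ∣ orderOf g → 2 * χ.1 g = ∑ i, ε i * (ψ i).1 g) →
      (∀ g, 2 ∣ orderOf g → 2 * χ.1 g + ∑ i, ε i * (ψ i).1 g = 0) →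
      (∀ i j, _root_.L.UU 2 (ww 2 (ψ i) (ψ j))) → (∀ i j k, 2 ^ k ∣ deg (ψ i) → 2 ^ k ∣ deg (ψ j)) →
      (∀ i, deg (ψ i) = 3840) ∨ DB χ ψ ε) : False := by
  classical
  have n45 : ∀ χ : IrrCharacter G, deg χ ≠ 45 := fun χ d => by
    have := L.e3_of_45 n23 d k; omega
  obtain ⟨α, dα⟩ := h252
  obtain ⟨χ, d⟩ := h3840 n45
  obtain ⟨r, h⟩ := exists_defOne (G := G) (p := 5) (m := 48964608) L.hN (by decide)
  obtain ⟨F5⟩ := exists_full h (n := 4) rfl (L.e5 h)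
  have dξ := (L.b5c n23 F5).2
  have db : ∀ χ : IrrCharacter G, deg χ = 3840 → ∃ ψ ε, DB χ ψ ε := fun χ d => by
    rcases d2 (by rw [L.hN]; norm_num) (by rw [L.hN]; norm_num) χ (by rw [d]; norm_num)
      (by rw [d]; norm_num) with ⟨S, h1, -, h2⟩ | ⟨ψ, h1, h2, ε, h3, h4, h5, h6, h7⟩
    · have : ∀ d ∈ DG, 256 ∣ d → ¬ 512 ∣ d → d = 3840 := by decide +kernel
      exact (L.not_A n12 n23 n45 dα dξ h1 fun ψ hψ => this _ (L.dg (ne_of_deg fun e => by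
        have := (h2 ψ hψ).1
        rw [e, deg_one1] at this; omega)) (h2 ψ hψ).1 (h2 ψ hψ).2).elim
    · rcases opt n45 χ ψ ε d h1 h2 h3 h4 h5 h6 h7 with e | e
      · exact (L.not_A n12 n23 n45 dα dξ (S := Finset.univ.image ψ)
          (by rw [Finset.card_image_of_injective _ h1]; rfl) (by simpa using e)).elim
      · exact ⟨ψ, ε, e⟩
  obtain ⟨ψ, ε, D⟩ := db χ d
  by_cases u : ∀ φ : IrrCharacter G, deg φ = 3840 → φ = χ
  · obtain ⟨F⟩ := L.full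
    obtain ⟨e, hF⟩ := L.list_a n12 n23 n45 (d3s L.hN) dα D d u dξ F
    exact L.not_a F hF n23 (d3s L.hN) k e6 ψ D.inj (e ▸ D.ne) ε D.sg (e ▸ D.reg)
  · push Not at u
    obtain ⟨χ', d', c⟩ := u
    obtain ⟨ψ', ε', D'⟩ := db χ' d'
    exact L.not_two n12 n23 n45 dα dξ D D' c.symm d d'

end MQ
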