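import Cfsg.Agent.MQ.B7

/-! Counting pairs of involutions. -/

set_option autoImplicit false
set_option linter.unusedSectionVars false

namespace MQ
open Cfsg H8 H2 Subgroup
open scoped ComplexConjugate

variable {G : Type*} [Group G] [Fintype G] [IsSimpleGroup G] {p : ℕ} [hp : Fact p.Prime] {x : G}

/-- the number of pairs with product in `x V` -/
noncomputable def prs (h : DefOne p x) (g k : G) : ℕ :=
  open Classical in ∑ v : h.V, npairs g k (x * v)

theorem prs_eq (h : DefOne p x) (g k : G) : (prs h g k : ℂ) =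
    (Cx g).index * (Cx k).index * Nat.card h.V / Nat.card G *
      ∑ χ : IrrCharacter G, χ.1 g * χ.1 k * conj (mu h χ) / deg χ := by
  classical
  have c := card_ne_zero_complex (G := h.V)
  simp only [prs, Nat.cast_sum, npairs_eq, ← Finset.mul_sum]
  rw [Finset.sum_comm]
  simp only [mu, map_div₀, map_sum, map_natCast, Finset.mul_sum]
  refine Finset.sum_congr rfl fun χ _ => ?_
  rw [← Finset.mul_sum, ← Finset.sum_div, ← Finset.mul_sum]
  field_simp

theorem Full.prs_eq {h : DefOne p x} {n : ℕ} (F : Full h n) (g k : G) : (prs h g k : ℂ) =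
    (Cx g).index * (Cx k).index * Nat.card h.V / Nat.card G *
      (1 + ∑ j, F.s j * ((F.c j).1 g * (F.c j).1 k / deg (F.c j))) := by
  rw [MQ.prs_eq, F.sum_irr _ fun χ a b => by simp [Full.mu_other F a b],
    mu_const h (χ := one1 G) (a := 1) fun _ _ => rfl]
  simp only [mu_const h fun v => F.val_mul _, map_intCast, Pi.one_apply, deg_one1, map_one]
  congr 2
  · simp
  · exact Finset.sum_congr rfl fun j _ => by ring

theorem Gen.prs_eq {h : DefOne p x} {n : ℕ} (T : Gen h n) {g k : G} (hg : ¬ p ∣ orderOf g)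
    (hk : ¬ p ∣ orderOf k) : (prs h g k : ℂ) =
    (Cx g).index * (Cx k).index * Nat.card h.V / Nat.card G *
      (1 + ∑ j, T.s j * ((T.c j).1 g * (T.c j).1 k / deg (T.c j)) +
        T.s0 * (T.E.1 g * T.E.1 k / deg T.E)) := by
  classical
  rw [MQ.prs_eq, T.sum_irr _ fun χ a b c => by simp [T.mu_other a b c],
    mu_const h (χ := one1 G) (a := 1) fun _ _ => rfl]
  simp only [mu_const h fun v => T.val_mul _, map_intCast, Pi.one_apply, deg_one1, map_one]
  have e : ∑ θ ∈ T.X, mu h θ = T.s0 := by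
    simp only [mu, ← Finset.sum_div]
    rw [Finset.sum_comm, Finset.sum_congr rfl (g := fun _ => (T.s0 : ℂ)) fun v _ => by
      simpa [xp_one] using T.valX 1 one_ne_zero v v.2, Finset.sum_const, Finset.card_univ,
      ← Nat.card_eq_fintype_card, nsmul_eq_mul, mul_div_cancel_left₀ _ card_ne_zero_complex]
  congr 2
  · congr 1
    · simp
    · exact Finset.sum_congr rfl fun j _ => by ring
  · rw [Finset.sum_congr rfl (g := fun θ => T.E.1 g * T.E.1 k / deg T.E * conj (mu h θ))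
      fun θ hθ => by rw [T.reg θ hθ g hg, T.reg θ hθ k hk, T.deg_X hθ]; ring, ← Finset.mul_sum,
      ← map_sum, e, map_intCast, mul_comm]

/-- the conjugates of `u` inverting `x` -/
def Iv (x u : G) : Type _ := {a : G // IsConj u a ∧ a * x * a⁻¹ = x⁻¹}

theorem inv_xp (h : DefOne p x) {a : G} (ha : a * x * a⁻¹ = x⁻¹) (i : ZMod p) :
    a * xp x i * a⁻¹ = xp x (-i) := by
  rw [DefOne.conj_xp, ha, h.xp_neg]
  exact inv_pow _ _

theorem Iv_mul (h : DefOne p x) (h2 : p ≠ 2) {u a : G} (ha : IsConj u a ∧ a * x * a⁻¹ = x⁻¹)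
    (i : ZMod p) : IsConj u (xp x i * a) ∧ xp x i * a * x * (xp x i * a)⁻¹ = x⁻¹ := by
  have t : (2 : ZMod p) ≠ 0 := fun e => h2 ((Nat.prime_dvd_prime_iff_eq hp.out Nat.prime_two).1
    ((ZMod.natCast_eq_zero_iff 2 p).1 (by exact_mod_cast e)))
  refine ⟨ha.1.trans (isConj_iff.2 ⟨xp x (i / 2), ?_⟩), ?_⟩
  · have := inv_xp h ha.2 (-(i / 2))
    rw [neg_neg] at this
    calc _ = xp x (i / 2) * (a * xp x (-(i / 2)) * a⁻¹) * a := by rw [h.xp_neg]; group
      _ = _ := by rw [this, ← xp_add h.pow_p]; congr 2; field_simp; ring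
  · calc _ = xp x i * (a * x * a⁻¹) * (xp x i)⁻¹ := by group
      _ = _ := by
        rw [ha.2, mul_inv_eq_iff_eq_mul]
        exact (show Commute (xp x i) x from mem_Cx.1 (xp_mem_Cx i)).inv_right.eq

theorem mul_mem_Cx {a b : G} (ha : a * x * a⁻¹ = x⁻¹) (hb : b * x * b⁻¹ = x⁻¹) : a * b ∈ Cx x := by
  refine mem_Cx.2 ?_
  have : a * x⁻¹ * a⁻¹ = x := by rw [← conj_inv, ha, inv_inv]
  calc _ = a * (b * x * b⁻¹) * a⁻¹ * (a * b) := by group
    _ = _ := by rw [hb, this]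

theorem inv_of_inv (h : DefOne p x) {a v : G} (hv : v ∈ h.V)
    (e : a * (x * v) * a⁻¹ = (x * v)⁻¹) : a * x * a⁻¹ = x⁻¹ := by
  have c : Commute x v := (mem_Cx.1 (h.V_le hv)).symm
  have co : (orderOf v).Coprime p :=
    ((Nat.Prime.coprime_iff_not_dvd hp.out).2 (h.mem_V'.1 hv).2).symm
  obtain ⟨m, hm⟩ := Nat.exists_mul_mod_eq_one_of_coprime co hp.out.one_lt
  have : (x * v) ^ (orderOf v * m) = x := by
    rw [c.mul_pow, pow_mul v, pow_orderOf_eq_one, one_pow, mul_one, ← pow_mod_orderOf, h.ord,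
      hm.2, pow_one]
  rw [← this, ← conj_pow, e, inv_pow]

theorem card_Iv (h : DefOne p x) (h2 : p ≠ 2) {u w : G} (hu : u ^ 2 = 1) (hw : w ^ 2 = 1) :
    p * prs h u w = Nat.card (Iv x u) * Nat.card (Iv x w) := by
  classical
  have sq : ∀ {z a : G}, z ^ 2 = 1 → IsConj z a → a⁻¹ = a := fun hz ha => by
    obtain ⟨c, rfl⟩ := isConj_iff.1 ha
    exact inv_eq_of_mul_eq_one_right (by rw [conj_mul, ← pow_two, hz, mul_one, mul_inv_cancel])
  rw [prs, ← Nat.card_sigma, ← Nat.card_prod]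
  refine (congrArg (· * _) (Nat.card_zmod p).symm).trans ((Nat.card_prod _ _).symm.trans ?_)
  have k1 : ∀ (v : h.V) (a b : G), IsConj u a → IsConj w b → a * b = x * v →
      a * x * a⁻¹ = x⁻¹ ∧ b * x * b⁻¹ = x⁻¹ := fun v a b ha hb e => by
    refine ⟨inv_of_inv h v.2 ?_, inv_of_inv h v.2 ?_⟩ <;> rw [← e, mul_inv_rev, sq hu ha, sq hw hb]
    · have aa : a * a = 1 := by nth_rewrite 1 [← sq hu ha]; exact inv_mul_cancel a
      rw [← mul_assoc a, aa, one_mul]
    · have bb : b * b = 1 := by nth_rewrite 1 [← sq hw hb]; exact inv_mul_cancel b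
      rw [mul_assoc, mul_assoc, bb, mul_one]
  refine Nat.card_congr (Equiv.ofBijective (fun z => (⟨xp x z.1 * z.2.2.1.1, Iv_mul h h2
    ⟨z.2.2.2.1, (k1 _ _ _ z.2.2.2.1 z.2.2.2.2.1 z.2.2.2.2.2).1⟩ _⟩,
    ⟨z.2.2.1.2, z.2.2.2.2.1, (k1 _ _ _ z.2.2.2.1 z.2.2.2.2.1 z.2.2.2.2.2).2⟩)) ⟨?_, ?_⟩)
  · rintro ⟨i, v, ⟨a, b⟩, e⟩ ⟨i', v', ⟨a', b'⟩, e'⟩ c
    have c1 : xp x i * a = xp x i' * a' := congrArg (fun z => z.1.1) c
    obtain rfl : b = b' := congrArg (fun z => z.2.1) c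
    have c2 : xp x (i + 1) * v = xp x (i' + 1) * v' := by
      rw [xp_add h.pow_p, xp_add h.pow_p, xp_one, mul_assoc, mul_assoc, ← e.2.2, ← e'.2.2,
        ← mul_assoc, ← mul_assoc, c1]
    have c3 := congrArg h.kap c2
    rw [h.kap_xp_mul _ v.2, h.kap_xp_mul _ v'.2, add_left_inj] at c3
    subst c3
    obtain rfl : v = v' := Subtype.ext (mul_left_cancel c2)
    obtain rfl : a = a' := mul_left_cancel c1
    rfl
  · rintro ⟨⟨a, ha⟩, ⟨b, hb⟩⟩
    obtain ⟨v, hv, e⟩ := h.exists_decomp (mul_mem_Cx ha.2 hb.2)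
    generalize h.kap (a * b) = i at e
    refine ⟨⟨i - 1, ⟨v, hv⟩, ⟨xp x (1 - i) * a, b⟩, (Iv_mul h h2 ha _).1, hb.1, ?_⟩, ?_⟩
    · show _ * _ * _ = x * v
      rw [mul_assoc, e, ← mul_assoc, ← xp_add h.pow_p, sub_add_cancel, xp_one]
    · refine Prod.ext (Subtype.ext ?_) rfl
      show _ * (_ * _) = a
      rw [← mul_assoc, ← xp_add h.pow_p, sub_add_sub_cancel, sub_self, xp_zero, one_mul]

theorem Iv_le (h : DefOne p x) (u : G) : Nat.card (Iv x u) ≤ p * Nat.card h.V := by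
  rw [← h.card_Cx]
  rcases isEmpty_or_nonempty (Iv x u) with e | ⟨⟨a, ha⟩⟩
  · simp
  · exact Nat.card_le_card_of_injective (fun b => (⟨a * b.1, mul_mem_Cx ha.2 b.2.2⟩ : Cx x))
      fun b c e => Subtype.ext (mul_left_cancel (congrArg Subtype.val e))

/-- `kk h u` = number of conjugates of `u` inverting `x`, divided by `p` -/
noncomputable def kk (_ : DefOne p x) (u : G) : ℕ := Nat.card (Iv x u) / p

theorem Iv_eq (h : DefOne p x) (h2 : p ≠ 2) {u : G} (hu : u ^ 2 = 1) :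
    Nat.card (Iv x u) = p * kk h u :=
  (Nat.mul_div_cancel' ((hp.out.dvd_mul.1 ⟨_, (card_Iv h h2 hu hu).symm⟩).elim id id)).symm

theorem kk_le (h : DefOne p x) (u : G) : kk h u ≤ Nat.card h.V :=
  Nat.div_le_of_le_mul (Iv_le h u)

/-- THE PAIR COUNT -/
theorem prs_kk (h : DefOne p x) (h2 : p ≠ 2) {u w : G} (hu : u ^ 2 = 1) (hw : w ^ 2 = 1) :
    prs h u w = p * kk h u * kk h w := by
  have := card_Iv h h2 hu hw
  rw [Iv_eq h h2 hu, Iv_eq h h2 hw, mul_assoc] at this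
  rw [Nat.eq_of_mul_eq_mul_left hp.out.pos this]; ring

theorem kk_pos (h : DefOne p x) (h2 : p ≠ 2) {u a : G} (hu : u ^ 2 = 1) (ha : IsConj u a)
    (e : a * x * a⁻¹ = x⁻¹) : 0 < kk h u := by
  have : Nonempty (Iv x u) := ⟨⟨a, ha, e⟩⟩
  have : Finite (Iv x u) := inferInstanceAs (Finite {a : G // _})
  have : 0 < Nat.card (Iv x u) := Nat.card_pos
  rw [Iv_eq h h2 hu] at this
  exact Nat.pos_of_mul_pos_left this

theorem kk_zero (h : DefOne p x) {u : G} (e : ∀ a, IsConj u a → a * x * a⁻¹ ≠ x⁻¹) :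
    kk h u = 0 := by
  have : IsEmpty (Iv x u) := ⟨fun a => e _ a.2.1 a.2.2⟩
  simp [kk]

theorem kk_nonreal (h : DefOne p x) (e : ¬ IsConj x x⁻¹) (u : G) : kk h u = 0 :=
  kk_zero h fun a _ c => e (isConj_iff.2 ⟨a, c⟩)

/-- candidates for the value of a character of degree `d` on a class of size `K` with centralizer
of order `C ≤ 967680` -/
def mv (d K C : ℕ) : List ℤ :=
  ((List.range (2 * (984 / (d / Nat.gcd d K)) + 1)).map fun i : ℕ =>
    ((d / Nat.gcd d K : ℕ) : ℤ) * (i - (984 / (d / Nat.gcd d K) : ℕ))).filter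
      fun a => decide (a * a < C) && (a - d) % 4 == 0 && decide (a * a < d * d)

theorem mem_mv {d K C : ℕ} {a : ℤ} (hd : 0 < d) (hC : C ≤ 967680) (h1 : (d : ℤ) ∣ K * a)
    (h2 : a * a < C) (h3 : 4 ∣ a - d) (h4 : |a| < d) : a ∈ mv d K C := by
  have g : 0 < Nat.gcd d K := Nat.gcd_pos_of_pos_left _ hd
  have co := Nat.coprime_div_gcd_div_gcd g
  have e1 := Nat.div_mul_cancel (Nat.gcd_dvd_left d K)
  have e2 := Nat.div_mul_cancel (Nat.gcd_dvd_right d K)
  simp only [mv, List.mem_filter, List.mem_map, List.mem_range, Bool.and_eq_true, decide_eq_true_eq,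
    beq_iff_eq]
  refine ⟨?_, ⟨h2, Int.emod_eq_zero_of_dvd h3⟩, by nlinarith [abs_lt.1 h4]⟩
  generalize d / Nat.gcd d K = m at *
  generalize K / Nat.gcd d K = l at *
  generalize Nat.gcd d K = c at *
  subst e1 e2
  have m0 : 0 < m := Nat.pos_of_mul_pos_right hd
  obtain ⟨j, rfl⟩ : (m : ℤ) ∣ a := by
    push_cast at h1
    rw [mul_right_comm, mul_dvd_mul_iff_right (by exact_mod_cast g.ne')] at h1
    exact Int.dvd_of_dvd_mul_right_of_gcd_one h1 (by simpa using co)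
  have b : j.natAbs ≤ 984 / m := by
    rw [Nat.le_div_iff_mul_le m0]
    have : (m * j) * (m * j) < 985 * 985 := by omega
    have := abs_lt_of_sq_lt_sq (a := m * j) (b := 985) (by nlinarith) (by norm_num)
    zify
    rw [abs_mul, Nat.abs_cast] at this
    linarith
  exact ⟨(j + (984 / m : ℕ)).toNat, by omega, by congr 1; omega⟩

end MQ
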