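import Cfsg.Agent.H2.M12a

/-! The principal block for a Sylow subgroup of prime order, indexed by `Fin n`. -/

set_option autoImplicit false
set_option linter.unusedSectionVars false

namespace MQ
open Cfsg H8 H2 Subgroup
open scoped ComplexConjugate

variable {G : Type*} [Group G] [Fintype G] {p : ℕ} [hp : Fact p.Prime] {x : G}

/-- The block for an automizer of order `n + 1`. -/
structure Gen (h : DefOne p x) (n : ℕ) where
  /-- the non-trivial non-exceptional characters -/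
  c : Fin n → IrrCharacter G
  /-- their signs -/
  s : Fin n → ℤ
  /-- the exceptional characters -/
  X : Finset (IrrCharacter G)
  /-- one of them -/
  E : IrrCharacter G
  /-- their sign -/
  s0 : ℤ
  s_eq : ∀ j, s j = 1 ∨ s j = -1
  s0_eq : s0 = 1 ∨ s0 = -1
  inj : Function.Injective c
  ne_one : ∀ j, c j ≠ one1 G
  E_mem : E ∈ X
  X1 : ∀ θ ∈ X, θ ≠ one1 G
  cX : ∀ j, c j ∉ X
  cardX : X.card * (n + 1) = p - 1
  val : ∀ j (i : ZMod p), i ≠ 0 → ∀ v ∈ h.V, (c j).1 (xp x i * v) = s j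
  valX : ∀ i : ZMod p, i ≠ 0 → ∀ v ∈ h.V, ∑ θ ∈ X, θ.1 (xp x i * v) = s0
  eta : ∀ θ, θ ∈ X → ∃ k : (ZMod p)ˣ, ∀ i : ZMod p, i ≠ 0 → ∀ v ∈ h.V,
    θ.1 (xp x i * v) = -s0 * h.eta (i * k)
  eta' : ∀ k : (ZMod p)ˣ, ∃ θ ∈ X, ∀ i : ZMod p, i ≠ 0 → ∀ v ∈ h.V,
    θ.1 (xp x i * v) = -s0 * h.eta (i * k)
  other : ∀ χ, χ ≠ one1 G → (∀ j, c j ≠ χ) → χ ∉ X → ∀ i : ZMod p, i ≠ 0 → ∀ [Fintype h.V],
    ∑ v : h.V, χ.1 (xp x i * v) = 0
  reg : ∀ θ ∈ X, ∀ g, ¬ p ∣ orderOf g → θ.1 g = E.1 g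
  lin : ∀ g, ¬ p ∣ orderOf g → 1 + ∑ j, s j * (c j).1 g + s0 * E.1 g = 0
  res : ∀ j, ∃ β : h.V → ℂ, IsCharacter h.V β ∧
    ∀ v : h.V, (c j).1 v = p * β v + (if s j = 1 then 1 else p - 1 : ℕ)
  resE : ∃ β : h.V → ℂ, IsCharacter h.V β ∧
    ∀ v : h.V, E.1 v = p * β v + (if s0 = 1 then p - (n + 1) else n + 1 : ℕ)
  dvd : ∀ j, deg (c j) ∣ (Cx x).index
  dvd0 : deg E ∣ (Cx x).index
  mod : ∀ j, (p : ℤ) ∣ s j * deg (c j) - 1
  mod0 : (p : ℤ) ∣ s0 * deg E + (n + 1)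
  mono : Monotone fun j => s j * deg (c j)

theorem exists_gen (h : DefOne p x) {n : ℕ} (he : Nat.card h.H = n + 1) : Nonempty (Gen h n) := by
  classical
  obtain ⟨b⟩ := h.nonempty_block
  obtain ⟨c, hc, hB, hm⟩ := exists_sorted (b.B.erase (one1 G)) (n := n)
    (by rw [Finset.card_erase_of_mem b.one_mem, b.card_B, he]; rfl) fun χ => b.sgn χ * deg χ
  have hcj : ∀ j, c j ≠ one1 G ∧ c j ∈ b.B := fun j => by simpa using (hB _).2 ⟨j, rfl⟩
  refine ⟨⟨c, fun j => b.sgn (c j), b.E, b.ex 1, b.sgn0, fun j => b.sgn_eq _ (hcj j).2,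
    b.sgn0_eq, hc, fun j => (hcj j).1, b.mem_E.2 ⟨1, rfl⟩, fun θ hθ => ?_, fun j hj => ?_,
    he ▸ b.card_E_mul, fun j i hi v hv => b.apply_B _ (hcj j).2 i hi v hv,
    fun i hi v hv => b.sum_E_apply hi hv, fun θ hθ => ?_,
    fun k => ⟨_, b.mem_E.2 ⟨k, rfl⟩, fun i hi v hv => b.apply_ex k hi hv⟩,
    fun χ h1 h2 h3 i hi _ => ?_, fun θ hθ g hg => ?_, fun g hg => ?_,
    fun j => b.exists_restrict_B (hcj j).2, he ▸ b.exists_restrict_ex 1,
    fun j => b.deg_dvd (hcj j).2, b.deg_ex_dvd 1, fun j => ?_, ?_, hm⟩⟩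
  · obtain ⟨k, rfl⟩ := b.mem_E.1 hθ
    exact b.ex_ne_one k
  · obtain ⟨k, e⟩ := b.mem_E.1 hj
    exact b.ex_notMem k (e ▸ (hcj j).2)
  · obtain ⟨k, rfl⟩ := b.mem_E.1 hθ
    exact ⟨k, fun i hi v hv => b.apply_ex k hi hv⟩
  · refine b.sum_other (fun h4 => ?_) (fun k e => h3 (b.mem_E.2 ⟨k, e.symm⟩)) hi
    obtain ⟨j, e⟩ := (hB χ).1 (Finset.mem_erase.2 ⟨h1, h4⟩)
    exact h2 j e
  · obtain ⟨k, rfl⟩ := b.mem_E.1 hθ
    exact b.ex_apply_reg _ _ hg
  · rw [← b.sum_reg 1 hg, sum_enum b.one_mem hc hB, b.sgn_one]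
    simp
  · obtain ⟨m, hm⟩ := b.deg_modEq (hcj j).2
    exact sgn_mod (b.sgn_eq _ (hcj j).2) hm
  · obtain ⟨m, hm⟩ := b.deg_ex_modEq 1
    rw [he] at hm
    refine ⟨b.sgn0 * m, ?_⟩
    have := sgn_sq b.sgn0_eq
    push_cast at hm
    linear_combination b.sgn0 * hm - (n + 1) * this

namespace Gen
variable {h : DefOne p x} {n : ℕ} (T : Gen h n)

theorem val' (j : Fin n) {i : ZMod p} (hi : i ≠ 0) : (T.c j).1 (xp x i) = T.s j := by
  simpa using T.val j i hi 1 (one_mem _)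

theorem val_x (j : Fin n) : (T.c j).1 x = T.s j := by
  simpa [xp_one] using T.val' j (one_ne_zero (α := ZMod p))

theorem val_mul (j : Fin n) {v : G} (hv : v ∈ h.V) : (T.c j).1 (x * v) = T.s j := by
  simpa [xp_one] using T.val j 1 (one_ne_zero (α := ZMod p)) v hv

theorem deg_X {θ : IrrCharacter G} (hθ : θ ∈ T.X) : deg θ = deg T.E := by
  have := T.reg θ hθ 1 not_dvd_orderOf_one
  rw [deg_eq, deg_eq] at this
  exact_mod_cast this

/-- The signed degrees. -/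
noncomputable abbrev q (j : Fin n) : ℤ := T.s j * deg (T.c j)
/-- The signed degree of the exceptional characters. -/
noncomputable abbrev q0 : ℤ := T.s0 * deg T.E

theorem sum_deg : 1 + ∑ j, T.q j + T.q0 = 0 := by
  have := T.lin 1 not_dvd_orderOf_one
  simp only [deg_eq] at this
  exact_mod_cast this

theorem lin' {g : G} (hg : ¬ p ∣ orderOf g) {a : Fin n → ℤ} {b : ℤ} (ha : ∀ j, (T.c j).1 g = a j)
    (hb : T.E.1 g = b) : 1 + ∑ j, T.s j * a j + T.s0 * b = 0 := by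
  have := T.lin g hg
  simp only [ha, hb] at this
  exact_mod_cast this

theorem other' (hV : h.V = ⊥) {χ : IrrCharacter G} (h1 : χ ≠ one1 G) (h2 : ∀ j, T.c j ≠ χ)
    (h3 : χ ∉ T.X) {i : ZMod p} (hi : i ≠ 0) : χ.1 (xp x i) = 0 := by
  classical
  have h4 := T.other χ h1 h2 h3 i hi
  have : Unique h.V := hV ▸ inferInstance
  rwa [Fintype.sum_unique, Subsingleton.elim (default : h.V) 1, coe_one, mul_one] at h4

theorem mem_of_const {χ : IrrCharacter G} (h1 : χ ≠ one1 G) {a : ℂ} (ha : a ≠ 0)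
    (h2 : ∀ v ∈ h.V, χ.1 (x * v) = a) : (∃ j, T.c j = χ) ∨ χ ∈ T.X := by
  classical
  by_contra h3
  rw [not_or] at h3
  have h4 := T.other χ h1 (fun j e => h3.1 ⟨j, e⟩) h3.2 1 one_ne_zero
  rw [xp_one, Finset.sum_congr rfl fun (v : h.V) _ => h2 v v.2, Finset.sum_const, nsmul_eq_mul,
    mul_eq_zero] at h4
  simp [ha] at h4

theorem sum_irr {A : Type*} [AddCommMonoid A] (f : IrrCharacter G → A)
    (hf : ∀ χ, χ ≠ one1 G → (∀ j, T.c j ≠ χ) → χ ∉ T.X → f χ = 0) :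
    ∑ χ, f χ = f (one1 G) + ∑ j, f (T.c j) + ∑ θ ∈ T.X, f θ := by
  classical
  rw [← sum_enum (B := insert (one1 G) (Finset.univ.image T.c)) (Finset.mem_insert_self _ _) T.inj
    (fun a => by rw [Finset.erase_insert (by simpa using T.ne_one)]; simp), ← Finset.sum_union]
  · refine (Finset.sum_subset (Finset.subset_univ _) fun χ _ hχ => ?_).symm
    simp only [Finset.mem_union, Finset.mem_insert, Finset.mem_image, Finset.mem_univ, true_and,
      not_or, not_exists] at hχ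
    exact hf χ hχ.1.1 hχ.1.2 hχ.2
  · refine Finset.disjoint_left.2 fun a ha hb => ?_
    simp only [Finset.mem_insert, Finset.mem_image, Finset.mem_univ, true_and] at ha
    rcases ha with rfl | ⟨j, rfl⟩
    exacts [T.X1 _ hb rfl, T.cX j hb]

theorem sum_le (f : IrrCharacter G → ℝ) (hf : ∀ χ, 0 ≤ f χ) :
    f (one1 G) + ∑ j, f (T.c j) + ∑ θ ∈ T.X, f θ ≤ ∑ χ, f χ := by
  classical
  let g : IrrCharacter G → ℝ := fun χ =>
    if χ = one1 G ∨ (∃ j, T.c j = χ) ∨ χ ∈ T.X then f χ else 0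
  have := T.sum_irr g fun χ a b c => if_neg (by simp [a, b, c])
  rw [show g (one1 G) = f _ from if_pos (Or.inl rfl),
    Finset.sum_congr rfl (g := fun j => f (T.c j)) fun j _ => if_pos (Or.inr (Or.inl ⟨j, rfl⟩)),
    Finset.sum_congr rfl (g := f) fun θ hθ => if_pos (Or.inr (Or.inr hθ))] at this
  rw [← this]
  refine Finset.sum_le_sum fun χ _ => ?_
  simp only [g]
  split_ifs
  exacts [le_rfl, hf χ]

/-- column bound at an element with integral values on the block -/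
theorem sq_le {g : G} (hg : ¬ p ∣ orderOf g) {a : Fin n → ℤ} {b : ℤ}
    (ha : ∀ j, (T.c j).1 g = a j) (hb : T.E.1 g = b) :
    1 + ∑ j, a j * a j + T.X.card * (b * b) ≤ Nat.card (Cx g) := by
  have := T.sum_le (fun χ => Complex.normSq (χ.1 g)) fun _ => Complex.normSq_nonneg _
  rw [sum_normSq, Finset.sum_congr (s₁ := T.X) rfl (g := fun _ => ((b * b : ℤ) : ℝ)) fun θ hθ => by
    rw [T.reg θ hθ g hg, hb, Complex.normSq_intCast]; push_cast; rfl] at this
  simp only [ha, Complex.normSq_intCast, Pi.one_apply, map_one, Finset.sum_const,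
    nsmul_eq_mul] at this
  exact_mod_cast this

theorem large [IsSimpleGroup G] (hG : _root_.commutator G = ⊤) (hV : h.V ≠ ⊥) :
    (∀ j, 2 * p < deg (T.c j)) ∧ 2 * p < deg T.E := by
  have key : ∀ χ : IrrCharacter G, χ ≠ one1 G → ∀ (β : h.V → ℂ) (r : ℕ), 0 < r →
      IsCharacter h.V β → (∀ v : h.V, χ.1 v = p * β v + r) → 2 * p < deg χ :=
    fun χ h1 β r hr h2 h3 => by
    by_contra h4
    exact hV ((eq_bot_iff_forall _).2 fun v hv => irr_faithful_of_simple χ.2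
      (fun h5 => h1 (Subtype.ext h5))
      (h.apply_eq_of_small hG (irr_isCharacter χ.2) h2 h3 (deg_eq _) (by omega) hv))
  have := hp.out.two_le
  refine ⟨fun j => ?_, ?_⟩
  · obtain ⟨β, h1, h2⟩ := T.res j
    exact key _ (T.ne_one j) β _ (by split_ifs <;> omega) h1 h2
  · obtain ⟨β, h1, h2⟩ := T.resE
    have h3 := T.cardX
    have h4 := Finset.card_pos.2 ⟨_, T.E_mem⟩
    have h5 : n + 1 ≤ p - 1 := h3 ▸ Nat.le_mul_of_pos_left _ h4
    exact key _ (T.X1 _ T.E_mem) β _ (by split_ifs <;> omega) h1 h2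

theorem cc_mem {θ : IrrCharacter G} (hθ : θ ∈ T.X) (h0 : θ.1 x⁻¹ ≠ θ.1 x) : cc θ ∈ T.X := by
  obtain ⟨k, hk⟩ := T.eta θ hθ
  have e : ∀ v ∈ h.V, (cc θ).1 (x * v) = θ.1 x⁻¹ := fun v hv => by
    have a := hk 1 one_ne_zero v hv
    have b := hk 1 one_ne_zero 1 (one_mem _)
    rw [xp_one] at a b
    rw [mul_one] at b
    rw [← char_conj_eq (irr_isCharacter θ.2), b, ← a]; rfl
  have e1 := e 1 (one_mem _)
  rw [mul_one] at e1
  have e2 : (cc θ).1 x⁻¹ = θ.1 x := by rw [cc_apply, inv_inv]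
  rcases T.mem_of_const (χ := cc θ) (fun c => h0 (by rw [← e1, ← e2, c]; rfl)) (a := θ.1 x⁻¹)
    (fun c => h0 (by rw [c, ← inv_inv x, ← char_conj_eq (irr_isCharacter θ.2), c, map_zero])) e
    with ⟨j, c⟩ | c
  · exact absurd (by rw [← e1, ← e2, ← c, T.val_x, val_inv (T.val_x j)]) h0
  · exact c

/-- two exceptional characters -/
structure Two (T : Gen h n) : Prop where
  ne : T.E.1 x⁻¹ ≠ T.E.1 x
  X_eq : ∀ θ, θ ∈ T.X ↔ θ = T.E ∨ θ = cc T.E
  sum : ∀ i : ZMod p, i ≠ 0 → ∀ v ∈ h.V, T.E.1 (xp x i * v) + (cc T.E).1 (xp x i * v) = T.s0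
  card : T.X.card = 2
  nonreal : ¬ IsConj x x⁻¹

theorem two (he : Nat.card h.H = n + 1) (h2 : 2 * (n + 1) + 1 = p) (ho : Odd (n + 1)) : T.Two := by
  classical
  have c2 : T.X.card = 2 := by
    have := T.cardX
    exact Nat.eq_of_mul_eq_mul_right (Nat.succ_pos n) (this.trans (by omega))
  have hxi : x⁻¹ = xp x (-1 : ZMod p) := by rw [h.xp_neg, xp_one]
  have hm1 : (-1 : (ZMod p)ˣ) ∉ h.H := fun h1 => by
    have h3 := orderOf_dvd_natCard (⟨-1, h1⟩ : h.H)
    rw [he, orderOf_dvd_iff_pow_eq_one, Subtype.ext_iff, SubmonoidClass.coe_pow, ho.neg_one_pow,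
      OneMemClass.coe_one, Units.ext_iff, Units.val_neg, Units.val_one] at h3
    have : Fact (2 < p) := ⟨by omega⟩
    exact ZMod.neg_one_ne_one h3
  have ne : T.E.1 x⁻¹ ≠ T.E.1 x := fun c => by
    obtain ⟨k, hk⟩ := T.eta _ T.E_mem
    have a := hk 1 one_ne_zero 1 (one_mem _)
    have b := hk (-1) (neg_ne_zero.2 one_ne_zero) 1 (one_mem _)
    rw [mul_one] at a b
    rw [xp_one] at a
    rw [← hxi, c, a] at b
    have s0 : (T.s0 : ℂ) ≠ 0 := by rcases T.s0_eq with e | e <;> simp [e]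
    have e : h.eta k = h.eta (-k) := by simpa [s0] using b
    have all : ∀ i : ZMod p, h.eta (i * k) = h.eta (i * (-k : (ZMod p)ˣ)) := fun i => by
      rcases eq_or_ne i 0 with rfl | hi
      · simp
      have m : Units.mk0 i hi ∈ h.H ∨ -Units.mk0 i hi ∈ h.H := by
        have ix : h.H.index = 2 := by
          have := h.H.card_mul_index
          rw [he, Nat.card_eq_fintype_card, ZMod.card_units] at this
          exact Nat.eq_of_mul_eq_mul_left (Nat.succ_pos n) (this.trans (by omega))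
        by_contra c
        rw [not_or] at c
        exact c.2 (by
          rw [← neg_one_mul]; exact (mul_mem_iff_of_index_two ix).2 (iff_of_false hm1 c.1))
      rcases m with m | m
      · have e1 := h.eta_mul m k
        have e2 := h.eta_mul m (-k)
        rw [Units.val_mk0] at e1 e2
        rw [mul_comm i, mul_comm i, e1, Units.val_neg, e2, e]
      · have e1 := h.eta_mul m k
        have e2 := h.eta_mul m (-k)
        rw [Units.val_neg, Units.val_mk0] at e1 e2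
        rw [Units.val_neg, show i * k = -k * -i by ring, show i * -(k : ZMod p) = k * -i by ring,
          e1, e2, e]
    have f1 := h.sum_psi_mul_eta k k
    have f2 := h.sum_psi_mul_eta k (-k)
    rw [if_pos (by simp)] at f1
    rw [if_neg (by simpa using hm1)] at f2
    simp only [← all] at f2
    exact hp.out.ne_zero (by exact_mod_cast f1.symm.trans f2)
  have ne' : T.E ≠ cc T.E := fun c => ne (by rw [← cc_apply, ← c])
  have XE : T.X = {T.E, cc T.E} := by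
    refine (Finset.eq_of_subset_of_card_le (fun a ha => ?_) ?_).symm
    · rcases Finset.mem_insert.1 ha with rfl | ha
      · exact T.E_mem
      · exact Finset.mem_singleton.1 ha ▸ T.cc_mem T.E_mem ne
    · rw [c2, Finset.card_pair ne']
  refine ⟨ne, fun θ => by simp [XE], fun i hi v hv => ?_, c2, fun h1 => ?_⟩
  · have := T.valX i hi v hv
    rwa [XE, Finset.sum_pair ne'] at this
  · exact hm1 (h.mem_H.2 (by rwa [Units.val_neg, Units.val_one, ← hxi]))

theorem Two.tr {T : Gen h n} (t : T.Two) {θ : IrrCharacter G} (hθ : θ ∈ T.X) :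
    θ.1 x + θ.1 x⁻¹ = T.s0 := by
  have := t.sum 1 one_ne_zero 1 (one_mem _)
  rw [mul_one, xp_one, cc_apply] at this
  rcases (t.X_eq θ).1 hθ with rfl | rfl
  · exact this
  · rw [cc_apply, cc_apply, inv_inv, add_comm]; exact this

end Gen

end MQ
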