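import Cfsg.Agent.MQ.T

/-! The possible degrees of a simple group of order 244823040. -/

set_option autoImplicit false
set_option linter.unusedSectionVars false

namespace MQ
open Cfsg H8 H2 Subgroup
open scoped ComplexConjugate

instance fact23 : Fact (Nat.Prime 23) := ⟨by norm_num⟩
instance fact7 : Fact (Nat.Prime 7) := ⟨by norm_num⟩

variable {G : Type*} [Group G] [Fintype G] {x y : G}

/-- the local data at 23 and 11 -/
structure Loc (x y : G) : Prop where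
  hN : Nat.card G = 244823040
  hx : DefOne 23 x
  vx : hx.V = ⊥
  ex : Nat.card hx.H = 11
  hy : DefOne 11 y
  vy : hy.V = ⊥
  ey : Nat.card hy.H = 10

/-- the integer `χ x + χ x⁻¹` -/
noncomputable def tr (x : G) (χ : IrrCharacter G) : ℤ := ⌊(χ.1 x + χ.1 x⁻¹).re⌋
/-- the integer `χ y` -/
noncomputable def vl (y : G) (χ : IrrCharacter G) : ℤ := ⌊(χ.1 y).re⌋

theorem tr_eq {χ : IrrCharacter G} {a : ℤ} (h : χ.1 x + χ.1 x⁻¹ = a) : tr x χ = a := by
  simp [tr, h]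
theorem tr_eq' {χ : IrrCharacter G} {a : ℤ} (h : χ.1 x = a) : tr x χ = 2 * a :=
  tr_eq (by rw [h, val_inv h]; push_cast; ring)
theorem vl_eq {χ : IrrCharacter G} {a : ℤ} (h : χ.1 y = a) : vl y χ = a := by simp [vl, h]

/-- the triples (degree, `tr`, `vl`) -/
def TY : List (ℕ × ℤ × ℤ) := [(11, -1, 0), (12, 1, 1), (22, -2, 0), (23, 0, 1), (45, -2, 1),
  (230, 0, -1), (231, 2, 0), (252, -2, -1), (253, 0, 0), (264, -1, 0), (276, 0, 1), (483, 0, -1),
  (495, 1, 0), (506, 0, 0), (528, -2, 0), (540, -1, 1), (736, 0, -1), (759, 0, 0), (770, -1, 0),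
  (990, 2, 0), (1012, 0, 0), (1024, 1, 1), (1035, 0, 1), (1242, 0, -1), (1265, 0, 0), (1288, 0, 1),
  (1518, 0, 0), (1540, -2, 0), (1760, 1, 0), (1771, 0, 0), (2024, 0, 0), (2277, 0, 0),
  (2530, 0, 0), (2760, 0, -1), (2772, 1, 0), (3024, -1, -1), (3036, 0, 0), (3312, 0, 1),
  (3520, 2, 0), (3542, 0, 0), (3795, 0, 0), (3840, -2, 1), (4048, 0, 0), (4554, 0, 0),
  (4830, 0, 1), (5060, 0, 0), (5313, 0, 0), (5544, 2, 0), (5796, 0, -1), (6072, 0, 0),
  (6336, -1, 0), (6831, 0, 0), (7084, 0, 0), (7360, 0, 1), (7590, 0, 0), (8096, 0, 0),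
  (8832, 0, -1), (8855, 0, 0), (9108, 0, 0), (9856, 1, 0), (10120, 0, 0), (10395, -2, 0),
  (10626, 0, 0), (11385, 0, 0), (12144, 0, 0), (12420, 0, 1), (12672, -2, 0), (12880, 0, -1),
  (13662, 0, 0), (14168, 0, 0), (15180, 0, 0), (15456, 0, 1)]

theorem ty_check : ∀ u ∈ List.range 126, ∀ d ∈ List.range' (125 * u) 125,
    244823040 % d = 0 → d ≠ 1 → ∀ t ∈ [(-2 : ℤ), -1, 0, 1, 2], ((d : ℤ) + 11 * t) % 23 = 0 → (t = 0 ∨ 10644480 % d = 0) →
    (t % 2 = 0 ∨ d ≤ 11064) → ∀ a ∈ [(-1 : ℤ), 0, 1], ((d : ℤ) - a) % 11 = 0 →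
    (a = 0 ∨ 22256640 % d = 0) → (d, t, a) ∈ TY := by
  decide +kernel

namespace Loc
variable (L : Loc x y)
include L

theorem cx : Nat.card (Cx x) = 23 := by rw [L.hx.card_Cx, L.vx, card_bot]
theorem cy : Nat.card (Cx y) = 11 := by rw [L.hy.card_Cx, L.vy, card_bot]
theorem ix : (Cx x).index = 10644480 := by
  have := (Cx x).card_mul_index
  rw [L.cx, L.hN] at this; omega
theorem iy : (Cx y).index = 22256640 := by
  have := (Cx y).card_mul_index
  rw [L.cy, L.hN] at this; omega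
theorem gen : ∃ T : Gen L.hx 10, T.Two :=
  let ⟨T⟩ := exists_gen L.hx (n := 10) L.ex
  ⟨T, T.two L.ex rfl (by decide)⟩
theorem full : Nonempty (Full L.hy 10) := exists_full L.hy rfl L.ey

section
variable {T : Gen L.hx 10} (F : Full L.hy 10)
theorem tr_c (j : Fin 10) : tr x (T.c j) = 2 * T.s j := tr_eq' (T.val_x j)
theorem tr_X (t : T.Two) {θ : IrrCharacter G} (h : θ ∈ T.X) : tr x θ = T.s0 := tr_eq (t.tr h)
theorem x_other {χ : IrrCharacter G} (h1 : χ ≠ one1 G) (h2 : ∀ j, T.c j ≠ χ) (h3 : χ ∉ T.X) :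
    χ.1 x = (0 : ℤ) := by simpa [xp_one] using T.other' L.vx h1 h2 h3 (i := 1) one_ne_zero
theorem tr_other {χ : IrrCharacter G} (h1 : χ ≠ one1 G) (h2 : ∀ j, T.c j ≠ χ) (h3 : χ ∉ T.X) :
    tr x χ = 0 := tr_eq' (L.x_other h1 h2 h3)
theorem vl_c (j : Fin 10) : vl y (F.c j) = F.s j := vl_eq (F.val_self j)
theorem vl_other {χ : IrrCharacter G} (h1 : χ ≠ one1 G) (h2 : ∀ j, F.c j ≠ χ) : vl y χ = 0 :=
  vl_eq (by simpa [xp_one] using F.other' L.vy h1 h2 (i := 1) one_ne_zero)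
/-- membership in the principal 23-block is read off from `tr` -/
theorem mem_c (t : T.Two) {χ : IrrCharacter G} (h1 : χ ≠ one1 G)
    (h : tr x χ = 2 ∨ tr x χ = -2) : ∃ j, T.c j = χ := by
  by_contra c
  by_cases h3 : χ ∈ T.X
  · have := L.tr_X t h3
    rcases T.s0_eq with e | e <;> omega
  · have := L.tr_other h1 (fun j e => c ⟨j, e⟩) h3
    omega
theorem mem_X {χ : IrrCharacter G} (h : tr x χ = 1 ∨ tr x χ = -1) : χ ∈ T.X := by
  by_contra c
  by_cases h1 : χ = one1 G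
  · have := tr_eq' (x := x) (χ := χ) (a := 1) (by simp [h1])
    omega
  by_cases h2 : ∃ j, T.c j = χ
  · obtain ⟨j, rfl⟩ := h2
    have := L.tr_c (T := T) j
    omega
  · have := L.tr_other h1 (fun j e => h2 ⟨j, e⟩) c
    omega
theorem mem_F {χ : IrrCharacter G} (h1 : χ ≠ one1 G) (h : vl y χ ≠ 0) : ∃ j, F.c j = χ := by
  by_contra c
  exact h (L.vl_other F h1 fun j e => c ⟨j, e⟩)
end

theorem vl_xp (χ : IrrCharacter G) {i : ZMod 11} (hi : i ≠ 0) : χ.1 (xp y i) = vl y χ := by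
  obtain ⟨a, h1, h2, -⟩ := exists_int_val L.hy L.ey χ
  rw [vl_eq h2, h1 i hi]

theorem vl_y (χ : IrrCharacter G) : χ.1 y = vl y χ := by
  simpa [xp_one] using L.vl_xp χ (i := 1) one_ne_zero

/-- a character with even `tr` is constant on the elements of order 23 -/
theorem tr_xp {χ : IrrCharacter G} {a : ℤ} (h : tr x χ = 2 * a) {i : ZMod 23} (hi : i ≠ 0) :
    χ.1 (xp x i) = a := by
  obtain ⟨T, t⟩ := L.gen
  by_cases h1 : χ = one1 G
  · have := tr_eq' (x := x) (χ := χ) (a := 1) (by simp [h1])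
    rw [show a = 1 by omega, h1]; simp
  by_cases h2 : ∃ j, T.c j = χ
  · obtain ⟨j, rfl⟩ := h2
    have := L.tr_c (T := T) j
    rw [T.val' j hi, show a = T.s j by omega]
  by_cases h3 : χ ∈ T.X
  · have := L.tr_X t h3
    rcases T.s0_eq with e | e <;> omega
  · have := L.tr_other h1 (fun j e => h2 ⟨j, e⟩) h3
    rw [T.other' L.vx h1 (fun j e => h2 ⟨j, e⟩) h3 hi, show a = 0 by omega]; simp

theorem tr_x (χ : IrrCharacter G) : χ.1 x + χ.1 x⁻¹ = tr x χ := by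
  obtain ⟨T, t⟩ := L.gen
  by_cases h3 : χ ∈ T.X
  · rw [L.tr_X t h3, t.tr h3]
  have : tr x χ % 2 = 0 := by
    by_cases h1 : χ = one1 G
    · have := tr_eq' (x := x) (χ := χ) (a := 1) (by simp [h1])
      omega
    by_cases h2 : ∃ j, T.c j = χ
    · obtain ⟨j, rfl⟩ := h2
      have := L.tr_c (T := T) j
      omega
    · have := L.tr_other h1 (fun j e => h2 ⟨j, e⟩) h3
      omega
  have e := L.tr_xp (χ := χ) (a := tr x χ / 2) (by omega) (i := 1) one_ne_zero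
  rw [xp_one] at e
  rw [e, val_inv e, ← Int.cast_add]
  congr 1; omega

/-- THE DEGREE TYPES -/
theorem ty [IsSimpleGroup G] {χ : IrrCharacter G} (h1 : χ ≠ one1 G) :
    (deg χ, tr x χ, vl y χ) ∈ TY := by
  obtain ⟨T, t⟩ := L.gen
  obtain ⟨F⟩ := L.full
  have nc : ¬ IsMulCommutative G := not_comm_of_card_not_prime (by rw [L.hN]; norm_num)
  have d1 := deg_sq_le χ
  have d2 : deg χ ∣ Nat.card G := irr_degree_dvd χ.2 (deg_eq χ)
  rw [L.hN] at d1 d2
  have d3 : deg χ ≠ 1 := fun e => by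
    have := irr_int_abs_lt nc h1 L.hy.ne_one (L.vl_y χ)
    have z := dvd_val_sub_deg 11 χ (k := 1) (by rw [pow_one, L.hy.pow_p]) (L.vl_y χ)
    rw [e, Nat.cast_one, abs_lt] at this
    omega
  have X : tr x χ ∈ [(-2 : ℤ), -1, 0, 1, 2] ∧ ((deg χ : ℤ) + 11 * tr x χ) % 23 = 0 ∧
      (tr x χ = 0 ∨ 10644480 % deg χ = 0) ∧ (tr x χ % 2 = 0 ∨ deg χ ≤ 11064) := by
    by_cases h2 : ∃ j, T.c j = χ
    · obtain ⟨j, rfl⟩ := h2
      have a := T.mod j
      have b := Nat.mod_eq_zero_of_dvd (L.ix ▸ T.dvd j)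
      rw [L.tr_c]
      rcases T.s_eq j with e | e <;> rw [e] at a ⊢ <;> refine ⟨by simp, by omega, Or.inr b, by simp⟩
    by_cases h3 : χ ∈ T.X
    · have a := T.mod0
      have b := Nat.mod_eq_zero_of_dvd (L.ix ▸ T.dvd0)
      have c := T.sq_le (g := 1) not_dvd_orderOf_one (a := fun j => deg (T.c j)) (b := deg T.E)
        (fun j => by simp [deg_eq]) (by simp [deg_eq])
      have c' : 0 ≤ ∑ j, (deg (T.c j) : ℤ) * deg (T.c j) :=
        Finset.sum_nonneg fun j _ => mul_self_nonneg _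
      rw [card_Cx_one, L.hN, t.card] at c
      have c2 : deg T.E ≤ 11064 := by
        by_contra c3
        push_cast at c
        nlinarith
      rw [L.tr_X t h3, T.deg_X h3]
      rcases T.s0_eq with e | e <;> rw [e] at a ⊢ <;>
        refine ⟨by simp, by omega, Or.inr b, Or.inr c2⟩
    · have a := dvd_deg_of_zero χ L.hx.pow_p
        (by simpa using L.x_other h1 (fun j e => h2 ⟨j, e⟩) h3)
      rw [L.tr_other h1 (fun j e => h2 ⟨j, e⟩) h3]
      exact ⟨by simp, by omega, Or.inl rfl, Or.inl rfl⟩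
  have Y : vl y χ ∈ [(-1 : ℤ), 0, 1] ∧ (vl y χ = 0 ∨ 22256640 % deg χ = 0) := by
    by_cases h2 : ∃ j, F.c j = χ
    · obtain ⟨j, rfl⟩ := h2
      have b := Nat.mod_eq_zero_of_dvd (L.iy ▸ F.dvd j)
      rw [L.vl_c]
      rcases F.s_eq j with e | e <;> rw [e] <;> exact ⟨by simp, Or.inr b⟩
    · rw [L.vl_other F h1 fun j e => h2 ⟨j, e⟩]
      exact ⟨by simp, Or.inl rfl⟩
  have z := dvd_val_sub_deg 11 χ (k := 1) (by rw [pow_one, L.hy.pow_p]) (L.vl_y χ)
  have d4 : deg χ < 15647 := by nlinarith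
  exact ty_check (deg χ / 125) (List.mem_range.2 (by omega)) _ (List.mem_range'_1.2 (by omega))
    (Nat.mod_eq_zero_of_dvd d2) d3 _ X.1 X.2.1
    X.2.2.1 X.2.2.2 _ Y.1 (by omega) Y.2

/-- block orthogonality against `x` and `y` -/
theorem gen_x {p : ℕ} [Fact p.Prime] {z : G} {h : DefOne p z} {n : ℕ} (T : Gen h n)
    (hp : p ≠ 23) : 2 + ∑ j, T.s j * tr x (T.c j) + T.s0 * tr x T.E = 0 := by
  have o : ¬ p ∣ orderOf x := fun e => hp ((Nat.prime_dvd_prime_iff_eq Fact.out Fact.out).1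
    (L.hx.ord ▸ e))
  have a := T.lin x o
  have b := T.lin x⁻¹ (by rwa [orderOf_inv])
  have : (2 : ℂ) + ∑ j, T.s j * (tr x (T.c j) : ℂ) + T.s0 * tr x T.E = 0 := by
    simp only [← L.tr_x, mul_add, Finset.sum_add_distrib]
    linear_combination a + b
  exact_mod_cast this

theorem gen_y {p : ℕ} [Fact p.Prime] {z : G} {h : DefOne p z} {n : ℕ} (T : Gen h n)
    (hp : p ≠ 11) : 1 + ∑ j, T.s j * vl y (T.c j) + T.s0 * vl y T.E = 0 :=
  T.lin' (fun e => hp ((Nat.prime_dvd_prime_iff_eq Fact.out Fact.out).1 (L.hy.ord ▸ e)))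
    (fun _ => L.vl_y _) (L.vl_y _)

theorem full_x {p : ℕ} [Fact p.Prime] {z : G} {h : DefOne p z} {n : ℕ} (T : Full h n)
    (hp : p ≠ 23) : 2 + ∑ j, T.s j * tr x (T.c j) = 0 := by
  have o : ¬ p ∣ orderOf x := fun e => hp ((Nat.prime_dvd_prime_iff_eq Fact.out Fact.out).1
    (L.hx.ord ▸ e))
  have a := T.lin x o
  have b := T.lin x⁻¹ (by rwa [orderOf_inv])
  have : (2 : ℂ) + ∑ j, T.s j * (tr x (T.c j) : ℂ) = 0 := by
    simp only [← L.tr_x, mul_add, Finset.sum_add_distrib]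
    linear_combination a + b
  exact_mod_cast this

theorem full_y {p : ℕ} [Fact p.Prime] {z : G} {h : DefOne p z} {n : ℕ} (T : Full h n)
    (hp : p ≠ 11) : 1 + ∑ j, T.s j * vl y (T.c j) = 0 := by
  have := T.lin y (fun e => hp ((Nat.prime_dvd_prime_iff_eq Fact.out Fact.out).1 (L.hy.ord ▸ e)))
  simp only [L.vl_y] at this
  exact_mod_cast this

end Loc

end MQ
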